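import Cfsg.Agent.Lib.LocalEven.OnePointFront.Nonfull.Moved.LayerCentre
import Cfsg.Agent.Lib.LocalEven.OnePointFront.Nonfull.Curved.MovedCase
import Mathlib.GroupTheory.Nilpotent

/-!
# Curved lines moving the centre: one class

`Q ≤ K` and `x` moves `Z = omCentre (S₀ ⊓ K)`, normalised by lifts of the torus.  A Sylow 2-subgroup
`C` of the layer group realises every displacement in `Q Z / Z` by elements central modulo `Z` with
squares in `Z`; so `C` is the whole of `T` for a suitable maximal 2-subgroup, and `x` has one class of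
conjugates in `x T`.
-/

set_option autoImplicit false
set_option linter.style.haveILetI false
set_option linter.unusedSectionVars false

namespace CfsgLib.LocalEven.OnePointFront.Nonfull.Moved

open MulAction CfsgLib.LocalEven.TIEndgame CfsgLib.Involution

universe u

variable {G Ω : Type u} [Group G] [MulAction G Ω] [Finite G] [Finite Ω]
  {D : Set G} {a : Ω} {x : G} {K R Q J₀ Z : Subgroup G}

namespace LayerData

variable (Y : LayerData D a x K R Q J₀ Z)
include Y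

/-- Irreducibility read through the lifts of the torus. -/
theorem top_of_invariant [(R.subgroupOf Q).Normal] (hlift : TorusLift a x R Q J₀ Z)
    (I : Subgroup (↥Q ⧸ R.subgroupOf Q))
    (hne : ∃ i ∈ I, i ≠ 1)
    (hinv : ∀ g : G, g • a = a → Commute x g → g ∈ Subgroup.normalizer (Z : Set G) →
      ∀ hgQ : g ∈ Subgroup.normalizer (Q : Set G), ∀ q : Q, (q : ↥Q ⧸ R.subgroupOf Q) ∈ I →
        ((⟨g * q * g⁻¹, (Subgroup.mem_normalizer_iff.1 hgQ q).1 q.2⟩ : Q) :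
          ↥Q ⧸ R.subgroupOf Q) ∈ I) : I = ⊤ := by
  set V : Subgroup G := (I.comap (QuotientGroup.mk' (R.subgroupOf Q))).map Q.subtype with hV
  have hmem : ∀ {v : G}, v ∈ V ↔ ∃ hv : v ∈ Q, ((⟨v, hv⟩ : Q) : ↥Q ⧸ R.subgroupOf Q) ∈ I := by
    intro v
    constructor
    · rintro ⟨p, hp, rfl⟩
      exact ⟨p.2, hp⟩
    · rintro ⟨hv, hp⟩
      exact ⟨⟨v, hv⟩, hp, rfl⟩
  have hRV : R ≤ V := fun r hr => hmem.2 ⟨Y.line.le hr, by
    rw [(QuotientGroup.eq_one_iff (N := R.subgroupOf Q) (⟨r, Y.line.le hr⟩ : Q)).2 hr]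
    exact one_mem I⟩
  have hVQ : V ≤ Q := fun v hv => (hmem.1 hv).1
  have hJ : J₀ ≤ Subgroup.normalizer (V : Set G) := by
    refine le_normalizer_of_conj fun j hj v hv => ?_
    obtain ⟨hvQ, hvI⟩ := hmem.1 hv
    obtain ⟨g, hga, hgx, hgZ, hgQ, -, hgj⟩ := hlift j hj
    have h1 : g * v * g⁻¹ ∈ V := hmem.2 ⟨_, hinv g hga hgx hgZ hgQ ⟨v, hvQ⟩ hvI⟩
    have h2 := mul_mem h1 (hRV (hgj v hvQ))
    rwa [mul_inv_cancel_left] at h2
  rcases Y.line.irred V hRV hVQ hJ with e | e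
  · exfalso
    obtain ⟨i, hi, hi1⟩ := hne
    obtain ⟨q, rfl⟩ := QuotientGroup.mk_surjective i
    exact hi1 ((QuotientGroup.eq_one_iff q).2 (e.le (hmem.2 ⟨q.2, hi⟩)))
  · refine eq_top_iff.2 fun i _ => ?_
    obtain ⟨q, rfl⟩ := QuotientGroup.mk_surjective i
    exact (hmem.1 (e.ge q.2)).2

theorem cls_conj [(R.subgroupOf Q).Normal] {g : G} (hga : g • a = a) (hgx : Commute x g)
    (hgQ : g ∈ Subgroup.normalizer (Q : Set G)) (hgZ : g ∈ Subgroup.normalizer (Z : Set G))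
    (l : Y.layerGroup) {q : Q} (hq : Y.cls l = (q : ↥Q ⧸ R.subgroupOf Q)) :
    Y.cls ⟨g * l * g⁻¹, Y.conj_layer hga hgx hgQ hgZ l.2⟩ =
      ((⟨g * q * g⁻¹, (Subgroup.mem_normalizer_iff.1 hgQ q).1 q.2⟩ : Q) :
        ↥Q ⧸ R.subgroupOf Q) := by
  obtain ⟨z, hz, e⟩ := Y.rep_spec l
  have hr : (Y.rep l : G)⁻¹ * q ∈ R := Subgroup.mem_subgroupOf.1 (QuotientGroup.eq.1
    (show ((Y.rep l : Q) : ↥Q ⧸ R.subgroupOf Q) = q from hq))
  refine Y.cls_eq _ _ (z := g * (((Y.rep l : G)⁻¹ * q)⁻¹ * z) * g⁻¹) ?_ ?_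
  · exact (Subgroup.mem_normalizer_iff.1 hgZ _).1 (mul_mem (Y.R_le (inv_mem hr)) hz)
  · have h1 : g⁻¹ * x * g = x := by rw [mul_assoc, hgx.eq, inv_mul_cancel_left]
    calc move x (g * (l : G) * g⁻¹)
        = g * ((g⁻¹ * x * g) * l * (g⁻¹ * x * g) * (l : G)⁻¹) * g⁻¹ := by rw [move]; group
      _ = g * move x l * g⁻¹ := by rw [h1, move]
      _ = g * q * g⁻¹ * (g * (((Y.rep l : G)⁻¹ * q)⁻¹ * z) * g⁻¹) := by rw [e]; group

theorem exists_move_eq [(R.subgroupOf Q).Normal] (l : Y.layerGroup) {q : Q}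
    (hq : Y.cls l = (q : ↥Q ⧸ R.subgroupOf Q)) : ∃ z ∈ Z, move x (l : G) = q * z := by
  obtain ⟨z, hz, e⟩ := Y.rep_spec l
  have hr : (Y.rep l : G)⁻¹ * q ∈ R := Subgroup.mem_subgroupOf.1 (QuotientGroup.eq.1
    (show ((Y.rep l : Q) : ↥Q ⧸ R.subgroupOf Q) = q from hq))
  exact ⟨((Y.rep l : G)⁻¹ * q)⁻¹ * z, mul_mem (Y.R_le (inv_mem hr)) hz, by rw [e]; group⟩

end LayerData

/-- One class for a curved line moving the centre with `Q ≤ K`. -/
theorem exists_oneClass {S₀ : Subgroup G} (M₀ : MovedTop D a x K R Q J₀ S₀) (h : ClosedSetting D Ω) (hQK : Q ≤ K)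
    (hQS : Q ≤ S₀) (hlift : TorusLift a x R Q J₀ (omCentre (S₀ ⊓ K))) :
    ∃ S : Subgroup G, MovedTop D a x K R Q J₀ S ∧ Q ≤ S ∧ OneClass K S x := by
  classical
  haveI : Fact (Nat.Prime 2) := ⟨Nat.prime_two⟩
  set W := omCentre (S₀ ⊓ K) with hW
  have Y : LayerData D a x K R Q J₀ W := layerData M₀ h hQK hQS
  haveI := Y.normal_R
  set H := Y.layerGroup with hH
  -- a maximal 2-subgroup containing a Sylow subgroup of the layer group and `x`
  have hxH : Subgroup.zpowers x ≤ Subgroup.normalizer (H : Set G) := by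
    refine Subgroup.zpowers_le.2 (Subgroup.mem_normalizer_iff.2 fun l => ⟨fun hl => ?_, fun hl => ?_⟩)
    · rw [Y.x_inv]; exact Y.x_layer hl
    · rw [Y.x_inv] at hl
      have := Y.x_layer hl
      rwa [show x * (x * l * x) * x = (x * x) * l * (x * x) by group, Y.x_sq, one_mul, mul_one] at this
  set X := H ⊔ Subgroup.zpowers x with hX
  have hHX : H ≤ X := le_sup_left
  have hxX : x ∈ X := Subgroup.mem_sup_right (Subgroup.mem_zpowers x)
  have hXH : X ≤ Subgroup.normalizer (H : Set G) := sup_le Subgroup.le_normalizer hxH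
  have hXaZ : X ≤ stabilizer G a ⊓ Subgroup.normalizer (W : Set G) := by
    refine sup_le (le_inf (fun l hl => Y.line.point.le hl.1) fun l hl => ?_)
      (Subgroup.zpowers_le.2 ⟨mem_stabilizer_iff.2 Y.line.fix, Y.conj_Z⟩)
    refine Subgroup.mem_normalizer_iff.2 fun z => ⟨fun hz => ?_, fun hz => ?_⟩
    · rwa [(hl.2.1 z hz).eq, mul_inv_cancel_right]
    · have h1 := hl.2.1 _ hz
      have : l * z * l⁻¹ = z := by
        calc l * z * l⁻¹ = l⁻¹ * (l * (l * z * l⁻¹)) := by group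
          _ = l⁻¹ * (l * z * l⁻¹ * l) := by rw [h1.eq]
          _ = z := by group
      rwa [this] at hz
  have hV0 : IsPGroup 2 ↥(Y.QZ ⊔ Subgroup.zpowers x) := by
    refine Y.isPGroup_QZ.to_sup_of_normal_left'
      (IsPGroup.of_card (n := 1) (by rw [Nat.card_zpowers, Y.line.bad.1, pow_one])) ?_
    refine Subgroup.zpowers_le.2 (Subgroup.mem_normalizer_iff.2 fun n => ⟨fun hn => ?_, fun hn => ?_⟩)
    · rw [Y.x_inv]; exact Y.xQZ hn
    · rw [Y.x_inv] at hn
      have := Y.xQZ hn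
      rwa [show x * (x * n * x) * x = (x * x) * n * (x * x) by group, Y.x_sq, one_mul, mul_one] at this
  have hV0X : Y.QZ ⊔ Subgroup.zpowers x ≤ X := sup_le_sup_right Y.QZ_le_layer _
  obtain ⟨P, hP⟩ := (hV0.of_equiv (Subgroup.subgroupOfEquivOfLe hV0X).symm).exists_le_sylow
  set P' := (P : Subgroup ↥X).map X.subtype with hP'
  have hP'X : P' ≤ X := Subgroup.map_subtype_le _
  obtain ⟨S, hS, hPS, hSW⟩ := exists_top M₀ (P.2.map _ : IsPGroup 2 P') (hP'X.trans hXaZ)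
  rw [← hW] at hSW
  have hmemP : ∀ {v : G}, v ∈ Y.QZ ⊔ Subgroup.zpowers x → v ∈ S := fun {v} hv =>
    hPS ⟨⟨v, hV0X hv⟩, hP hv, rfl⟩
  have hxS : x ∈ S := hmemP (Subgroup.mem_sup_right (Subgroup.mem_zpowers x))
  have hQS' : Q ≤ S := fun q hq => hmemP (Subgroup.mem_sup_left (Y.Q_le hq))
  have M : MovedTop D a x K R Q J₀ S := ⟨Y.line, hS, hxS, by rw [hSW]; exact Y.R_le,
    by rw [hSW]; exact M₀.moved⟩
  have hNT := Y.QZ_le_top h hS hxS hQS' hSW
  set T := S ⊓ K with hT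
  set C := S ⊓ H with hC
  have hCT : C ≤ T := inf_le_inf_left S fun l hl => hl.1
  have hC2 : IsPGroup 2 C := hS.1.to_le inf_le_left
  have hNC : Y.QZ ≤ C := le_inf (hNT.trans inf_le_left) Y.QZ_le_layer
  -- `C` is a Sylow 2-subgroup of the layer group
  have hCmax : ∀ V : Subgroup G, IsPGroup 2 V → V ≤ H → Nat.card V ≤ Nat.card C := by
    intro V hV hVH
    obtain ⟨g, hg⟩ := Involution.Basic.exists_conj_le P
      (hV.of_equiv (Subgroup.subgroupOfEquivOfLe (hVH.trans hHX)).symm)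
    refine Nat.card_le_card_of_injective (fun v : V =>
      (⟨(g : G) * v * (g : G)⁻¹, hPS ⟨_, hg ⟨v, hHX (hVH v.2)⟩ v.2, rfl⟩,
        (Subgroup.mem_normalizer_iff.1 (hXH g.2) _).1 (hVH v.2)⟩ : ↥C)) ?_
    intro v w e
    exact Subtype.ext (mul_left_cancel (mul_right_cancel (congrArg Subtype.val e)))
  let CS : Sylow 2 ↥H :=
    { toSubgroup := C.subgroupOf H
      isPGroup' := hC2.comap_subtype
      is_maximal' := fun {V} hV hle => by
        refine le_antisymm (fun v hv => ?_) hle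
        have e : C = V.map H.subtype := Subgroup.eq_of_le_of_card_ge
          (fun c hc => ⟨⟨c, hc.2⟩, hle hc, rfl⟩) (hCmax _ (hV.map _) (Subgroup.map_subtype_le V))
        exact e.ge ⟨v, hv, rfl⟩ }
  -- a central element outside `Q Z`
  obtain ⟨u, huT, huN, hu2, huc⟩ := Y.exists_centre h hS hxS hQS' hSW M₀.moved
  obtain ⟨huH, hum⟩ := Y.centre_mem h hS hxS hQS' hSW huT huN hu2 huc
  -- the subgroup of central elements of order two modulo `W`
  have hCW : ∀ {c : G}, c ∈ C → ∀ {z : G}, z ∈ W → Commute c z := fun {c} hc {z} hz =>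
    (Y.mem_layer.1 hc.2).2.1 z hz
  let U : Subgroup ↥H :=
    { carrier := {c | (c : G) ∈ C ∧ (c : G) * c ∈ W ∧
        ∀ s ∈ C, (c : G) * s * (c : G)⁻¹ * s⁻¹ ∈ W}
      one_mem' := ⟨one_mem C, by simp [one_mem], fun s _ => by simp [one_mem]⟩
      mul_mem' := fun {c d} hc hd => by
        have hcd : (c : G) * d * (c : G)⁻¹ * (d : G)⁻¹ ∈ W := hc.2.2 _ hd.1
        refine ⟨mul_mem hc.1 hd.1, ?_, fun s hs => ?_⟩
        · have h1 := hCW hd.1 hcd
          set k := (c : G) * d * (c : G)⁻¹ * (d : G)⁻¹ with hk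
          show (c : G) * d * ((c : G) * d) ∈ W
          have e : (c : G) * d * ((c : G) * d) = ((c : G) * c) * ((c : G)⁻¹ * ((c : G) * d * (c : G)⁻¹ *
              (d : G)⁻¹)⁻¹ * c)⁻¹⁻¹ * ((d : G) * d) := by group
          rw [e, ← hk, inv_inv, mul_assoc (c : G)⁻¹, ← (hCW hc.1 (inv_mem hcd)).eq, inv_mul_cancel_left]
          exact mul_mem (mul_mem hc.2.1 (inv_mem hcd)) hd.2.1
        · show (c : G) * d * s * ((c : G) * d)⁻¹ * s⁻¹ ∈ W
          have hds := hd.2.2 s hs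
          rw [show (c : G) * d * s * ((c : G) * d)⁻¹ * s⁻¹ =
            (c : G) * ((d : G) * s * (d : G)⁻¹ * s⁻¹) * (c : G)⁻¹ *
              ((c : G) * s * (c : G)⁻¹ * s⁻¹) by group, (hCW hc.1 hds).eq, mul_inv_cancel_right]
          exact mul_mem hds (hc.2.2 s hs)
      inv_mem' := fun {c} hc => by
        refine ⟨inv_mem hc.1, ?_, fun s hs => ?_⟩
        · show (c : G)⁻¹ * (c : G)⁻¹ ∈ W
          rw [← mul_inv_rev]
          exact inv_mem hc.2.1
        · show (c : G)⁻¹ * s * (c : G)⁻¹⁻¹ * s⁻¹ ∈ W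
          have h1 := hc.2.2 s hs
          rw [show (c : G)⁻¹ * s * (c : G)⁻¹⁻¹ * s⁻¹ =
            (c : G)⁻¹ * (((c : G) * s * (c : G)⁻¹ * s⁻¹)⁻¹ * c) by group,
            ← (hCW hc.1 (inv_mem h1)).eq, inv_mul_cancel_left]
          exact inv_mem h1 }
  -- every class is realised in `U`
  have hU : U.map Y.cls = ⊤ := by
    refine Y.top_of_invariant hlift _ ⟨_, Subgroup.mem_map_of_mem _ (x := (⟨u, huH⟩ : H))
      ⟨⟨huT.1, huH⟩, hu2, fun s hs => huc s (hCT hs)⟩, fun e => hum ((Y.cls_eq_one _).1 e)⟩ ?_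
    intro g hga hgx hgZ hgQ q hq
    obtain ⟨c, ⟨hc, hc2, hcc⟩, hcq⟩ := hq
    -- adjust `g` to normalise `C`
    set C' := C.map (MulAut.conj g).toMonoidHom with hC'
    have hC'H : C' ≤ H := by
      rintro _ ⟨l, hl, rfl⟩
      exact Y.conj_layer hga hgx hgQ hgZ hl.2
    obtain ⟨k, hk⟩ := Involution.Basic.exists_conj_le CS
      ((hC2.map _ : IsPGroup 2 C').of_equiv (Subgroup.subgroupOfEquivOfLe hC'H).symm)
    have hkC : ∀ s ∈ C, (k : G) * (g * s * g⁻¹) * (k : G)⁻¹ ∈ C := fun s hs =>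
      hk ⟨g * s * g⁻¹, hC'H ⟨s, hs, rfl⟩⟩ ⟨s, hs, rfl⟩
    have hsurj : Function.Surjective (fun s : C => (⟨_, hkC s s.2⟩ : C)) :=
      Finite.surjective_of_injective fun s t e => Subtype.ext
        (mul_left_cancel (mul_right_cancel (mul_left_cancel (mul_right_cancel
          (congrArg Subtype.val e)))))
    have hkW : ∀ z ∈ W, (k : G) * (g * z * g⁻¹) * (k : G)⁻¹ ∈ W := fun z hz => by
      have h1 := (Subgroup.mem_normalizer_iff.1 hgZ z).1 hz
      rwa [(k.2.2.1 _ h1).eq, mul_inv_cancel_right]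
    set d : H := k * ⟨g * c * g⁻¹, Y.conj_layer hga hgx hgQ hgZ c.2⟩ * k⁻¹ with hd
    refine ⟨d, ⟨hkC _ hc, ?_, fun s hs => ?_⟩, ?_⟩
    · show (k : G) * (g * c * g⁻¹) * (k : G)⁻¹ * ((k : G) * (g * c * g⁻¹) * (k : G)⁻¹) ∈ W
      rw [show (k : G) * (g * c * g⁻¹) * (k : G)⁻¹ * ((k : G) * (g * c * g⁻¹) * (k : G)⁻¹) =
        (k : G) * (g * ((c : G) * c) * g⁻¹) * (k : G)⁻¹ by group]
      exact hkW _ hc2
    · obtain ⟨t, ht⟩ := hsurj ⟨s, hs⟩
      have ht' : s = (k : G) * (g * t * g⁻¹) * (k : G)⁻¹ := (congrArg Subtype.val ht).symm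
      show (k : G) * (g * c * g⁻¹) * (k : G)⁻¹ * s *
        ((k : G) * (g * c * g⁻¹) * (k : G)⁻¹)⁻¹ * s⁻¹ ∈ W
      rw [ht', show (k : G) * (g * c * g⁻¹) * (k : G)⁻¹ * ((k : G) * (g * t * g⁻¹) * (k : G)⁻¹) *
          ((k : G) * (g * c * g⁻¹) * (k : G)⁻¹)⁻¹ * ((k : G) * (g * t * g⁻¹) * (k : G)⁻¹)⁻¹ =
        (k : G) * (g * ((c : G) * t * (c : G)⁻¹ * (t : G)⁻¹) * g⁻¹) * (k : G)⁻¹ by group]
      exact hkW _ (hcc t t.2)
    · rw [hd, map_mul, map_mul, map_inv, Y.cls_comm k, mul_inv_cancel_right]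
      exact Y.cls_conj hga hgx hgQ hgZ c hcq
  -- so `C` is central of exponent two modulo `W`
  have hCU : ∀ c ∈ C, c * c ∈ W := by
    intro c hc
    obtain ⟨d, ⟨hd, hd2, hdc⟩, hdc'⟩ := hU.ge (Subgroup.mem_top (Y.cls ⟨c, hc.2⟩))
    have hm : move x ((d : G)⁻¹ * c) ∈ W :=
      (Y.cls_eq_one (d⁻¹ * ⟨c, hc.2⟩)).1 (by rw [map_mul, map_inv, hdc', inv_mul_cancel])
    have hn := Y.fixed_top h hS hxS hQS' hSW (hCT (mul_mem (inv_mem hd) hc)) hm
    set n := (d : G)⁻¹ * c with hn'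
    have hk := hdc n (hNC hn)
    have e : c * c = ((d : G) * d) * ((d : G)⁻¹ * ((d : G) * n * (d : G)⁻¹ * n⁻¹)⁻¹ * d) *
        (n * n) := by rw [hn']; group
    rw [e, mul_assoc (d : G)⁻¹, ← (hCW hd (inv_mem hk)).eq, inv_mul_cancel_left]
    exact mul_mem (mul_mem hd2 (inv_mem hk)) (Y.R_le (Y.sq_QZ hn))
  -- the inverted elements of `C` lie in `Q W`
  have hinv : ∀ c ∈ C, x * c * x = c⁻¹ → c ∈ Y.QZ := fun c hc hcx =>
    Y.fixed_top h hS hxS hQS' hSW (hCT hc) (by rw [move_of_inverted hcx]; exact inv_mem (hCU c hc))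
  have hxC : ∀ c ∈ C, x * c * x ∈ C := fun c hc =>
    ⟨mul_mem (mul_mem hxS hc.1) hxS, Y.x_layer hc.2⟩
  -- `C = T`
  have hTC : T ≤ C := by
    by_contra hne
    have hlt : C.subgroupOf T < ⊤ := lt_top_iff_ne_top.2 fun e => hne (Subgroup.subgroupOf_eq_top.1 e)
    haveI : Group.IsNilpotent T := (hS.1.to_le (inf_le_left : T ≤ S)).isNilpotent
    obtain ⟨s, hs, hsC⟩ :=
      SetLike.exists_of_lt (Group.normalizerCondition_of_isNilpotent (G := T) _ hlt)
    -- the elements of `T` normalising `C`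
    let N : Subgroup G := (Subgroup.normalizer ((C.subgroupOf T : Subgroup T) : Set T)).map T.subtype
    have hNT' : N ≤ T := Subgroup.map_subtype_le _
    have hsN : (s : G) ∈ N := ⟨s, hs, rfl⟩
    have hCN : C ≤ N := fun c hc => ⟨⟨c, hCT hc⟩, Subgroup.le_normalizer hc, rfl⟩
    have hxN : ∀ t ∈ N, x * t * x ∈ N := by
      rintro _ ⟨t, ht, rfl⟩
      refine ⟨⟨_, Y.x_top h hS hxS hQS' hSW t.2⟩, Subgroup.mem_normalizer_iff.2 fun c => ?_, rfl⟩
      have key := Subgroup.mem_normalizer_iff.1 ht ⟨_, Y.x_top h hS hxS hQS' hSW c.2⟩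
      have hxx : ∀ g : G, g ∈ C ↔ x * g * x ∈ C := fun g => ⟨hxC g, fun hg => by
        have := hxC _ hg
        rwa [show x * (x * g * x) * x = (x * x) * g * (x * x) by group, Y.x_sq, one_mul,
          mul_one] at this⟩
      show (c : G) ∈ C ↔ x * (t : G) * x * c * (x * (t : G) * x)⁻¹ ∈ C
      rw [hxx (c : G), hxx (x * (t : G) * x * c * (x * (t : G) * x)⁻¹)]
      refine key.trans (Iff.of_eq (congrArg (· ∈ C) ?_))
      show (t : G) * (x * c * x) * (t : G)⁻¹ = _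
      rw [mul_inv_rev, mul_inv_rev, Y.x_inv]
      calc (t : G) * (x * c * x) * (t : G)⁻¹
          = (x * x) * t * x * c * x * (t : G)⁻¹ * (x * x) := by rw [Y.x_sq]; group
        _ = _ := by group
    -- an element outside `C` which `x` fixes modulo `C`
    obtain ⟨s', hs'N, hs'C, hs'm⟩ : ∃ s' ∈ N, s' ∉ C ∧ move x s' ∈ C := by
      by_cases hm : move x (s : G) ∈ C
      · exact ⟨s, hsN, hsC, hm⟩
      set t := move x (s : G) with ht
      have htN : t ∈ N := by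
        rw [ht, show move x (s : G) = x * s * x * (s : G)⁻¹ from rfl]
        exact mul_mem (hxN _ hsN) (inv_mem hsN)
      have htx : x * t * x = t⁻¹ := conj_move Y.x_sq _
      have hpow : ∀ n : ℕ, x * t ^ n * x = (t ^ n)⁻¹ := by
        intro n
        induction n with
        | zero => simp [Y.x_sq]
        | succ n ih =>
          calc x * t ^ (n + 1) * x = x * t ^ n * (x * x) * t * x := by rw [pow_succ, Y.x_sq]; group
            _ = (x * t ^ n * x) * (x * t * x) := by group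
            _ = (t * t ^ n)⁻¹ := by rw [ih, htx, mul_inv_rev]
            _ = _ := by rw [← pow_succ']
      have hex : ∃ m, t ^ 2 ^ m ∈ C := by
        obtain ⟨k, hk⟩ := (hS.1.to_le (inf_le_left : T ≤ S)) ⟨t, hNT' htN⟩
        exact ⟨k, by rw [show t ^ 2 ^ k = 1 from congrArg Subtype.val hk]; exact one_mem C⟩
      obtain ⟨m, hm'⟩ := Nat.exists_eq_succ_of_ne_zero (n := Nat.find hex) fun e => hm (by
        have := Nat.find_spec hex
        rwa [e, pow_zero, pow_one] at this)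
      refine ⟨t ^ 2 ^ m, pow_mem htN _, Nat.find_min hex (by omega), ?_⟩
      rw [move_of_inverted (hpow _), ← pow_add]
      have := Nat.find_spec hex
      rw [hm', pow_succ, mul_two] at this
      exact inv_mem this
    obtain ⟨q, hq, z, hz, e⟩ := Y.mem_QZ.1 (hinv _ hs'm (conj_move Y.x_sq s'))
    obtain ⟨k, hk, hkq⟩ := hU.ge (Subgroup.mem_top ((⟨q, hq⟩ : Q) : ↥Q ⧸ R.subgroupOf Q))
    obtain ⟨z', hz', e'⟩ := Y.exists_move_eq k hkq
    have hcz : move x ((k : G)⁻¹ * s') ∈ W := by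
      have h1 := move_mul Y.x_sq (k : G) ((k : G)⁻¹ * s')
      rw [mul_inv_cancel_left] at h1
      have h2 : (k : G) * move x ((k : G)⁻¹ * s') * (k : G)⁻¹ = z'⁻¹ * z := by
        rw [show (k : G) * move x ((k : G)⁻¹ * s') * (k : G)⁻¹ = (move x (k : G))⁻¹ * move x s' by
          rw [h1, inv_mul_cancel_left], e, e']
        group
      have h3 : (z'⁻¹ * z : G) ∈ W := mul_mem (inv_mem hz') hz
      have h4 : move x ((k : G)⁻¹ * s') = z'⁻¹ * z := by
        calc move x ((k : G)⁻¹ * s')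
            = (k : G)⁻¹ * ((k : G) * move x ((k : G)⁻¹ * s') * (k : G)⁻¹) * k := by group
          _ = _ := by rw [h2, mul_assoc, ← (hCW hk.1 h3).eq, inv_mul_cancel_left]
      rw [h4]; exact h3
    have h5 := Y.fixed_top h hS hxS hQS' hSW
      (mul_mem (inv_mem (hCT hk.1)) (hNT' hs'N)) hcz
    have h6 := mul_mem hk.1 (hNC h5)
    rw [mul_inv_cancel_left] at h6
    exact hs'C h6
  -- one class
  refine ⟨S, M, hQS', fun s hs ⟨t, ht, hst⟩ => ?_⟩
  have hxt : x * t * (x * t) = 1 := by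
    rw [← hst, show s * x * s⁻¹ * (s * x * s⁻¹) = s * (x * x) * s⁻¹ by group, Y.x_sq]; group
  obtain ⟨q, hq, z, hz, rfl⟩ := Y.mem_QZ.1 (hinv t (hTC ht)
    (eq_inv_of_mul_eq_one_left (by rw [← hxt]; group)))
  obtain ⟨k, hk, hkq⟩ := hU.ge (Subgroup.mem_top ((⟨q, hq⟩ : Q) : ↥Q ⧸ R.subgroupOf Q))
  obtain ⟨z', hz', e'⟩ := Y.exists_move_eq k hkq
  have hkx : (k : G) * x * (k : G)⁻¹ = x * (q * z') := by rw [conj_eq_move Y.x_sq, e']
  have hxz' : x * (q * z') * (x * (q * z')) = 1 := by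
    rw [← hkx, show (k : G) * x * (k : G)⁻¹ * ((k : G) * x * (k : G)⁻¹) = (k : G) * (x * x) *
      (k : G)⁻¹ by group, Y.x_sq]
    group
  have hsq : ∀ y ∈ W, x * (q * y) * (x * (q * y)) = q * q * ((x * y * x) * y) := by
    intro y hy
    calc x * (q * y) * (x * (q * y)) = (x * q) * y * (x * q) * y := by group
      _ = q * (x * y) * (q * x) * y := by rw [(Y.line.comm q hq).eq]; group
      _ = q * (x * (q * y) * x) * y := by rw [((Y.Z_comm y hy q hq).symm).eq]; group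
      _ = q * (q * (x * y * x)) * y := by
        rw [show x * (q * y) * x = (x * q) * y * x by group, (Y.line.comm q hq).eq]; group
      _ = _ := by group
  rw [hsq z hz] at hxt
  rw [hsq z' hz'] at hxz'
  have hwZ : z'⁻¹ * z ∈ W := mul_mem (inv_mem hz') hz
  have hwc : Commute x (z'⁻¹ * z) := by
    have h1 : (x * z * x) * z = (x * z' * x) * z' := mul_left_cancel (hxt.trans hxz'.symm)
    have h2 : x * (z'⁻¹ * z) * x = z' * z⁻¹ := by
      calc x * (z'⁻¹ * z) * x = (x * z' * x)⁻¹ * ((x * z * x) * z) * z⁻¹ := by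
            rw [mul_inv_rev, mul_inv_rev, Y.x_inv,
              show x * (z'⁻¹ * x) * (x * z * x * z) * z⁻¹ = x * z'⁻¹ * (x * x) * z * x by group,
              Y.x_sq, mul_one]
            group
        _ = _ := by rw [h1]; group
    have hzi : ∀ y ∈ W, y⁻¹ = y := fun y hy => inv_eq_of_mul_eq_one_right (Y.sq_Z y hy)
    have h3 : x * (z'⁻¹ * z) * x⁻¹ = z'⁻¹ * z := by
      rw [Y.x_inv, h2, hzi z' hz', hzi z hz]
    exact mul_inv_eq_iff_eq_mul.1 h3
  obtain ⟨w, hw, hwx⟩ := Y.onto _ (Y.centre _ hwZ hwc)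
  refine ⟨(k : G) * w, hCT (mul_mem hk.1 (hNC (Y.Z_le hw))), ?_⟩
  calc (k : G) * w * x * ((k : G) * w)⁻¹ = (k : G) * (w * x * w⁻¹) * (k : G)⁻¹ := by group
    _ = ((k : G) * x * (k : G)⁻¹) * ((k : G) * (z'⁻¹ * z) * (k : G)⁻¹) := by rw [hwx]; group
    _ = x * (q * z) := by
      rw [hkx, (hCW hk.1 hwZ).eq, mul_inv_cancel_right]; group
    _ = _ := hst.symm

/-- The moved case with `Q ≤ K` is impossible. -/
theorem false_of_movedCase_le (hM : MovedCase D a x K R Q J₀) (h : ClosedSetting D Ω)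
    (hgen : Subgroup.closure D = ⊤) (hmax : MaxRank D Ω R) (hQK : Q ≤ K) : False :=
  hM.false_of_le h hgen hmax hQK fun _ M hQS hlift => exists_oneClass M h hQK hQS hlift

end CfsgLib.LocalEven.OnePointFront.Nonfull.Moved
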