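import Cfsg.Agent.Lib.LocalEven.OnePointFront.Nonfull.Linear.Data
import Cfsg.Agent.Lib.LocalEven.TIEndgame.TransferHom
import Mathlib.GroupTheory.Transfer

/-!
# Moved lines: the abelian endgame

`K` is normal in the stabiliser of `a` and contains its members.  If a maximal 2-subgroup is abelian
modulo `K` and the bad involution `x` outside `K` has no other conjugate modulo `K` in it, transfer
gives a homomorphism killing the members but not `x`.
-/

set_option autoImplicit false
set_option linter.style.haveILetI false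

namespace CfsgLib.LocalEven.OnePointFront.Nonfull.Moved

open MulAction CfsgLib.LocalEven.TIEndgame
open scoped commutatorElement Pointwise

universe u v

variable {G : Type u} {Ω : Type v} [Group G] [MulAction G Ω] [Finite G] [Finite Ω] {D : Set G}

/-- A top 2-subgroup abelian modulo `K`, with one conjugate of `x` modulo `K`, contradicts
transfer. -/
theorem false_of_abelian (h : ClosedSetting D Ω) (hgen : Subgroup.closure D = ⊤) {a : Ω}
    {K S : Subgroup G} (hKn : ∀ g : G, g • a = a → ∀ k ∈ K, g * k * g⁻¹ ∈ K)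
    (hKD : ∀ d ∈ D, d • a = a → d ∈ K) (hS : IsTopTwo S a) {x : G} (hx : orderOf x = 2)
    (hxS : x ∈ S) (hxK : x ∉ K) (habel : ∀ s ∈ S, ∀ t ∈ S, ⁅s, t⁆ ∈ K)
    (hcong : ∀ g : G, g • a = a → g * x * g⁻¹ ∈ S → x⁻¹ * (g * x * g⁻¹) ∈ K) : False := by
  classical
  haveI : Fact (Nat.Prime 2) := ⟨Nat.prime_two⟩
  set M := stabilizer G a with hM
  haveI hKn' : (K.subgroupOf M).Normal := ⟨fun k hk g => hKn g g.2 k hk⟩
  let T : Sylow 2 ↥M :=
    { toSubgroup := S.subgroupOf M
      isPGroup' := hS.1.comap_subtype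
      is_maximal' := fun {V} hV hle => by
        refine le_antisymm (fun v hv => ?_) hle
        have := hS.2.2 (V.map M.subtype) (hV.map _) (Subgroup.map_subtype_le V)
          (fun y hy => ⟨⟨y, hS.2.1 hy⟩, hle hy, rfl⟩)
        exact this.le ⟨v, hv, rfl⟩ }
  set π := QuotientGroup.mk' (K.subgroupOf M) with hπ
  set TQ := T.mapSurjective (f := π) (QuotientGroup.mk'_surjective _) with hTQ
  set Q : Subgroup (↥M ⧸ K.subgroupOf M) := (TQ : Subgroup (↥M ⧸ K.subgroupOf M)) with hQ
  set xM : ↥M := ⟨x, hS.2.1 hxS⟩ with hxM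
  have hπx : π xM ≠ 1 := fun e => hxK ((QuotientGroup.eq_one_iff xM).1 e)
  have hxM2 : xM * xM = 1 := Subtype.ext (by
    show x * x = 1
    rw [← pow_two, ← hx, pow_orderOf_eq_one])
  have hπx2 : orderOf (π xM) = 2 := orderOf_eq_prime (by
    rw [pow_two, ← map_mul, hxM2, map_one]) hπx
  have hcomm : ∀ p q : Q, p * q = q * p := by
    rintro ⟨_, ⟨s, hs, rfl⟩⟩ ⟨_, ⟨t, ht, rfl⟩⟩
    refine Subtype.ext ?_
    show π s * π t = π t * π s
    rw [← commutatorElement_eq_one_iff_mul_comm, ← map_commutatorElement]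
    exact (QuotientGroup.eq_one_iff (N := K.subgroupOf M) _).2 (habel s hs t ht)
  letI : CommGroup Q := { (inferInstance : Group Q) with mul_comm := hcomm }
  haveI : Q.FiniteIndex := Subgroup.finiteIndex_of_finite_quotient
  set V := MonoidHom.transfer (MonoidHom.id Q) with hV
  -- the only conjugate of the image of `x`
  have key : ∀ (k : ℕ) (g₀ : ↥M ⧸ K.subgroupOf M), g₀⁻¹ * π xM ^ k * g₀ ∈ Q →
      g₀⁻¹ * π xM ^ k * g₀ = π xM ^ k := by
    intro k g₀ hmem
    have hcase : π xM ^ k = 1 ∨ π xM ^ k = π xM := by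
      rw [← pow_mod_orderOf, hπx2]
      rcases Nat.mod_two_eq_zero_or_one k with e | e
      · exact Or.inl (by rw [e, pow_zero])
      · exact Or.inr (by rw [e, pow_one])
    rcases hcase with e | e
    · rw [e, mul_one, inv_mul_cancel]
    rw [e] at hmem ⊢
    obtain ⟨g, rfl⟩ := QuotientGroup.mk'_surjective (K.subgroupOf M) g₀
    obtain ⟨s, hs, hsz⟩ := hmem
    -- a 2-element of `S K` is conjugate under `K` into `S`
    set H : Subgroup ↥M := (T : Subgroup ↥M) ⊔ K.subgroupOf M with hH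
    have hzH : g⁻¹ * xM * g ∈ H := by
      have hk : s⁻¹ * (g⁻¹ * xM * g) ∈ K.subgroupOf M :=
        (QuotientGroup.eq_one_iff _).1 (show π (s⁻¹ * (g⁻¹ * xM * g)) = 1 by
          rw [map_mul, map_inv, map_mul, map_mul, map_inv, hsz, inv_mul_cancel])
      simpa using mul_mem (Subgroup.mem_sup_left hs : s ∈ H) (Subgroup.mem_sup_right hk)
    set z : H := ⟨g⁻¹ * xM * g, hzH⟩ with hz
    have hz2 : orderOf z = 2 := by
      rw [← Subgroup.orderOf_coe]
      show orderOf (g⁻¹ * xM * g) = 2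
      rw [show g⁻¹ * xM * g = MulAut.conj g⁻¹ xM by simp, MulEquiv.orderOf_eq, ← Subgroup.orderOf_coe]
      exact hx
    obtain ⟨W, hW⟩ := (IsPGroup.of_card (p := 2) (n := 1) (G := Subgroup.zpowers z)
      (by rw [Nat.card_zpowers, hz2, pow_one])).exists_le_sylow
    obtain ⟨w, hw⟩ := MulAction.exists_smul_eq H W (T.subtype le_sup_left)
    have hwz : ((w : H) : ↥M) * (g⁻¹ * xM * g) * ((w : H) : ↥M)⁻¹ ∈ (T : Subgroup ↥M) := by
      have h1 : MulAut.conj w z ∈ ((w • W : Sylow 2 H) : Subgroup H) := by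
        rw [Sylow.coe_subgroup_smul]
        exact Subgroup.smul_mem_pointwise_smul z _ _ (hW (Subgroup.mem_zpowers z))
      rw [hw] at h1
      exact h1
    -- move the `S`-part of `w` away
    have hwd : ((w : H) : ↥M) ∈ ((T : Subgroup ↥M) : Set ↥M) * ((K.subgroupOf M) : Set ↥M) := by
      rw [← Subgroup.mul_normal]; exact w.2
    obtain ⟨t, ht, q, hq, hwtq⟩ := hwd
    rw [← (show t * q = (w : ↥M) from hwtq)] at hwz
    have hqz : q * (g⁻¹ * xM * g) * q⁻¹ ∈ (T : Subgroup ↥M) := by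
      have := mul_mem (mul_mem (inv_mem (show t ∈ (T : Subgroup ↥M) from ht)) hwz) ht
      simpa [mul_assoc] using this
    have hgK : x⁻¹ * ((q * g⁻¹ : ↥M) * x * ((q * g⁻¹ : ↥M) : G)⁻¹) ∈ K := by
      refine hcong _ (q * g⁻¹ : ↥M).2 ?_
      have : ((q * (g⁻¹ * xM * g) * q⁻¹ : ↥M) : G) ∈ S := hqz
      simpa [hxM, mul_assoc] using this
    have hq1 : π q = 1 := (QuotientGroup.eq_one_iff q).2 hq
    have h1 : π (xM⁻¹ * ((q * g⁻¹) * xM * (q * g⁻¹)⁻¹)) = 1 :=
      (QuotientGroup.eq_one_iff (N := K.subgroupOf M) _).2 hgK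
    simp only [map_mul, map_inv, hq1, one_mul, inv_inv, inv_mul_eq_one] at h1
    exact h1.symm
  have hodd : ¬ 2 ∣ Q.index := TQ.not_dvd_index
  have hne : V (π xM) ≠ 1 := by
    rw [hV, MonoidHom.transfer_eq_pow (MonoidHom.id Q) (π xM) key]
    intro e
    have e' : π xM ^ Q.index = 1 := congrArg Subtype.val e
    rw [← hπx2] at hodd
    exact hodd (orderOf_dvd_of_pow_eq_one e')
  exact h.toOnePoint.false_of_hom h.covers hgen (V.comp π) (fun d hd => by
      rw [MonoidHom.comp_apply,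
        show π d = 1 from (QuotientGroup.eq_one_iff d).2 (hKD d hd d.2), map_one])
    xM (k := 1) (by rw [pow_one, pow_two]; exact hxM2) hne

end CfsgLib.LocalEven.OnePointFront.Nonfull.Moved
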