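import Cfsg.Agent.Lib.LocalEven.OnePointFront.Nonfull.Moved.ShearFix
import Cfsg.Agent.Lib.LocalEven.OnePointFront.Nonfull.Moved.AbelianEndgame

/-!
# The moved case of a Suzuki line

With `Q` outside the maximal point group `S` is `Q⟨x⟩` modulo `K`, so abelian there, and `x` is the
only conjugate of `x` in it modulo `K`: against transfer.
-/

set_option autoImplicit false
set_option linter.style.haveILetI false
set_option linter.unusedSectionVars false

namespace CfsgLib.LocalEven.OnePointFront.Nonfull.Moved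

open MulAction CfsgLib.LocalEven.TIEndgame CfsgLib.Involution
open scoped Pointwise commutatorElement

universe u

variable {G Ω : Type u} [Group G] [MulAction G Ω] [Finite G] [Finite Ω] [FaithfulSMul G Ω]
  {D : Set G} {a : Ω} {x : G} {K R Q J S : Subgroup G}

/-- The preimage of the centraliser of the image of `x`. -/
def coset (x : G) (Q K : Subgroup G) : Subgroup G := (Q ⊔ Subgroup.zpowers x) ⊔ K

namespace ShearTop

variable (P : ShearTop D a x K R Q J S)
include P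

theorem x_notMem : x ∉ K := P.suzuki.toCurvedLine.x_notMem P.setting

theorem R_le_K {g : G} (hg : g ∈ R) : g ∈ K := (P.R_le hg).2

theorem mul_notMem {g : G} (hg : g ∈ Q) : x * g ∉ K := fun h => by
  have hT : x * g ∈ S ⊓ K := ⟨mul_mem P.top.mem (P.le_S hg), h⟩
  have hR : x * g ∈ R := P.mem_R_T hT ((Commute.refl x).mul_right (P.suzuki.comm g hg))
  have hxQ : x ∈ Q := by simpa using mul_mem (P.suzuki.le hR) (inv_mem hg)
  exact P.x_notMem (P.R_le_K (P.suzuki.involution x hxQ P.top.x_sq))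

theorem exists_decomp {g : G} (hg : g ∈ coset x Q K) :
    ∃ q ∈ Q, q⁻¹ * g ∈ K ∨ (x * q)⁻¹ * g ∈ K := by
  have hQx : ∀ c ∈ Q ⊔ Subgroup.zpowers x, ∃ q ∈ Q, c = q ∨ c = x * q := by
    intro c hc
    let C : Subgroup G :=
      { carrier := {c | ∃ q ∈ Q, c = q ∨ c = x * q}
        one_mem' := ⟨1, one_mem _, Or.inl rfl⟩
        mul_mem' := by
          intro c c' hc hc'
          obtain ⟨q, hq, e⟩ := hc
          obtain ⟨q', hq', e'⟩ := hc'
          refine ⟨q * q', mul_mem hq hq', ?_⟩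
          rcases e with e | e <;> rcases e' with e' | e' <;> rw [e, e']
          · exact Or.inl rfl
          · right
            rw [← mul_assoc, ← (P.suzuki.comm q hq).eq, mul_assoc]
          · exact Or.inr (mul_assoc _ _ _)
          · left
            calc x * q * (x * q') = x * (q * x) * q' := by group
              _ = (x * x) * (q * q') := by rw [← (P.suzuki.comm q hq).eq]; group
              _ = _ := by rw [P.top.x_sq, one_mul]
        inv_mem' := by
          intro c hc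
          obtain ⟨q, hq, e⟩ := hc
          refine ⟨q⁻¹, inv_mem hq, ?_⟩
          rcases e with e | e <;> rw [e]
          · exact Or.inl rfl
          · right
            rw [mul_inv_rev, P.x_inv, (P.suzuki.comm _ (inv_mem hq)).eq] }
    exact (sup_le (fun q hq => (⟨q, hq, Or.inl rfl⟩ : q ∈ C))
      (Subgroup.zpowers_le.2 (⟨1, one_mem _, Or.inr (mul_one x).symm⟩ : x ∈ C)) :
        Q ⊔ Subgroup.zpowers x ≤ C) hc
  have hle : Q ⊔ Subgroup.zpowers x ≤ Subgroup.normalizer (K : Set G) := by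
    refine sup_le (fun q hq => mem_normalizer_of_conj_mem fun k hk =>
      P.suzuki.toCurvedLine.conj_K (P.suzuki.fix_Q q hq) hk)
      (Subgroup.zpowers_le.2 (mem_normalizer_of_conj_mem fun k hk =>
        P.suzuki.toCurvedLine.conj_K P.suzuki.fix hk))
  have h1 : g ∈ ((Q ⊔ Subgroup.zpowers x : Subgroup G) : Set G) * (K : Set G) := by
    rw [← Subgroup.coe_mul_of_left_le_normalizer_right _ K hle]; exact hg
  obtain ⟨c, hc, k, hk, rfl⟩ := h1
  obtain ⟨q, hq, rfl | rfl⟩ := hQx c hc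
  · exact ⟨_, hq, Or.inl (by simpa using hk)⟩
  · exact ⟨_, hq, Or.inr (by simpa [mul_assoc] using hk)⟩

/-- An involution of `c K` is conjugate under `K` to one of `c (S ⊓ K)`, `c` in `S`. -/
theorem exists_into_S {y c : G} (hy : y * y = 1) (hc : c ∈ S) (hyc : c⁻¹ * y ∈ K) :
    ∃ z ∈ S ⊓ K, (c * z) * (c * z) = 1 := by
  classical
  haveI : Fact (Nat.Prime 2) := ⟨Nat.prime_two⟩
  by_cases hy1 : y = 1
  · subst hy1
    rw [mul_one] at hyc
    exact ⟨c⁻¹, ⟨S.inv_mem hc, hyc⟩, by simp⟩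
  set H := S ⊔ K with hH
  have hle : S ≤ Subgroup.normalizer (K : Set G) := fun s hs => mem_normalizer_of_conj_mem
    fun k hk => P.top.line.point.conj s (P.top.top.2.1 hs) k hk
  have hyH : y ∈ H := by
    have := mul_mem (Subgroup.mem_sup_left hc : c ∈ H) (Subgroup.mem_sup_right hyc)
    rwa [mul_inv_cancel_left] at this
  have hHM : H ≤ stabilizer G a := sup_le P.top.top.2.1 P.top.line.point.le
  let T₂ : Sylow 2 H :=
    { toSubgroup := S.subgroupOf H
      isPGroup' := P.top.top.1.comap_subtype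
      is_maximal' := fun {V} hV hle' => by
        refine le_antisymm (fun v hv => ?_) hle'
        have := P.top.top.2.2 (V.map H.subtype) (hV.map _)
          ((Subgroup.map_subtype_le V).trans hHM)
          (fun s hs => ⟨⟨s, Subgroup.mem_sup_left hs⟩, hle' hs, rfl⟩)
        exact this.le ⟨v, hv, rfl⟩ }
  have hord : orderOf (⟨y, hyH⟩ : H) = 2 := by
    rw [Subgroup.orderOf_mk]; exact orderOf_eq_prime (by rw [pow_two, hy]) hy1
  obtain ⟨W, hW⟩ := (IsPGroup.of_card (p := 2) (n := 1) (G := Subgroup.zpowers (⟨y, hyH⟩ : H))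
    (by rw [Nat.card_zpowers, hord, pow_one])).exists_le_sylow
  obtain ⟨w, hw⟩ := MulAction.exists_smul_eq H W T₂
  have hwy : (w : G) * y * (w : G)⁻¹ ∈ S := by
    have h1 : MulAut.conj w (⟨y, hyH⟩ : H) ∈ ((w • W : Sylow 2 H) : Subgroup H) := by
      rw [Sylow.coe_subgroup_smul]
      exact Subgroup.smul_mem_pointwise_smul _ _ _ (hW (Subgroup.mem_zpowers _))
    rw [hw] at h1
    exact h1
  obtain ⟨s, hs, k, hk, hsk⟩ : (w : G) ∈ (S : Set G) * (K : Set G) := by
    rw [← Subgroup.coe_mul_of_left_le_normalizer_right S K hle]; exact w.2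
  rw [← (show s * k = (w : G) from hsk)] at hwy
  have hky : k * y * k⁻¹ ∈ S := by
    have := S.mul_mem (S.mul_mem (S.inv_mem hs) hwy) hs
    simpa [mul_assoc] using this
  refine ⟨c⁻¹ * (k * y * k⁻¹), ⟨S.mul_mem (S.inv_mem hc) hky, ?_⟩, ?_⟩
  · have hk' : c⁻¹ * k * c ∈ K := by
      have := (Subgroup.mem_normalizer_iff.1 (inv_mem (hle hc)) k).1 hk
      rwa [inv_inv] at this
    rw [show c⁻¹ * (k * y * k⁻¹) = (c⁻¹ * k * c) * (c⁻¹ * y) * k⁻¹ by group]
    exact K.mul_mem (K.mul_mem hk' hyc) (K.inv_mem hk)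
  · rw [mul_inv_cancel_left, show k * y * k⁻¹ * (k * y * k⁻¹) = k * (y * y) * k⁻¹ by group, hy]
    group

/-- No involution lies in `x g K` for `g` in `Q` outside `R`. -/
theorem no_involution {g y : G} (hg : g ∈ Q) (hgR : g ∉ R) (hy : y * y = 1)
    (hyc : (x * g)⁻¹ * y ∈ K) : False := by
  obtain ⟨z, hz, hinv⟩ := P.exists_into_S hy (mul_mem P.top.mem (P.le_S hg)) hyc
  obtain ⟨z₁, hz₁, hz₁R, hcz₁⟩ := P.exists_fixed hg hgR
  set w := x * g * z with hw
  have hwa : w • a = a := mem_stabilizer_iff.1 (mul_mem (P.top.top.2.1 (mul_mem P.top.mem (P.le_S hg)))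
    (P.top.top.2.1 hz.1))
  have hwK : w ∉ K := fun h => P.mul_notMem hg (by simpa [hw] using mul_mem h (inv_mem hz.2))
  have hw1 : w ≠ 1 := fun e => hwK (e ▸ one_mem K)
  have hord : orderOf w = 2 := orderOf_eq_prime (by rw [pow_two]; exact hinv) hw1
  have hbad : IsBad Ω w := (P.setting.mem_or_bad hord hwa).resolve_left fun hd =>
    hwK (P.top.line.point.dat_le w ⟨hd, hwa⟩)
  set U := (S ⊓ K) ⊓ Subgroup.centralizer ({w} : Set G) with hU
  have hle := P.rank w a U hbad (fun u hu => P.T_sq hu.1)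
    (fun u hu hu1 => P.top.line.point.mem_dat inf_le_right (P.eq_T.ge hu.1) hu1)
    (fun u hu => (Subgroup.mem_centralizer_singleton_iff.1 hu.2).symm)
  have hRU : R ≤ U := fun r hr => ⟨P.R_le hr, Subgroup.mem_centralizer_singleton_iff.2
    (((P.suzuki.comm r (P.suzuki.le hr)).mul_left (P.suzuki.central g hg r hr)).mul_left
      (P.T_comm hz (P.R_le hr))).symm⟩
  have heq := Subgroup.eq_of_le_of_card_ge hRU hle
  exact hz₁R (heq.ge ⟨hz₁, Subgroup.mem_centralizer_singleton_iff.2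
    (hcz₁.mul_left (P.T_comm hz hz₁)).symm⟩)

/-- An element at `a` carrying `x` and `Q` into `Q⟨x⟩K` fixes `x` modulo `K`. -/
theorem congr_of_maps {n : G} (hn : n • a = a) (hx : n * x * n⁻¹ ∈ coset x Q K)
    (hQ : ∀ q ∈ Q, n * q * n⁻¹ ∈ coset x Q K) : x⁻¹ * (n * x * n⁻¹) ∈ K := by
  classical
  have hconj : ∀ {g : G}, g • a = a → ∀ {k : G}, k ∈ K → g * k * g⁻¹ ∈ K :=
    fun hg _ hk => P.suzuki.toCurvedLine.conj_K hg hk
  have hni : n⁻¹ • a = a := inv_smul_eq_iff.2 hn.symm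
  have hback : ∀ {k : G}, n * k * n⁻¹ ∈ K → k ∈ K := fun {k} hk => by
    have := hconj hni hk
    rwa [show n⁻¹ * (n * k * n⁻¹) * n⁻¹⁻¹ = k by group] at this
  have hyy : n * x * n⁻¹ * (n * x * n⁻¹) = 1 := by
    rw [show n * x * n⁻¹ * (n * x * n⁻¹) = n * (x * x) * n⁻¹ by group, P.top.x_sq]; group
  obtain ⟨q₀, hq₀, h₀ | h₀⟩ := P.exists_decomp hx
  swap
  · by_cases hR : q₀ ∈ R
    · have := mul_mem (P.R_le_K hR) h₀
      rwa [show q₀ * ((x * q₀)⁻¹ * (n * x * n⁻¹)) = x⁻¹ * (n * x * n⁻¹) by group] at this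
    · exact (P.no_involution hq₀ hR hyy h₀).elim
  exfalso
  by_cases hR : q₀ ∈ R
  · exact P.x_notMem (hback (by
      have := mul_mem (P.R_le_K hR) h₀
      rwa [mul_inv_cancel_left] at this))
  -- every coset of `K` on `Q` outside `R` contains an involution
  have hex : ∀ q ∈ Q, q ∉ R → ∃ w : G, w * w = 1 ∧ q⁻¹ * w ∈ K := by
    intro q hq hqR
    obtain ⟨j, hja, -, -, -, hjg⟩ := P.exists_torus hq₀ hR hq hqR
    refine ⟨j * (n * x * n⁻¹) * j⁻¹, ?_, ?_⟩
    · rw [show j * (n * x * n⁻¹) * j⁻¹ * (j * (n * x * n⁻¹) * j⁻¹) =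
        j * (n * x * n⁻¹ * (n * x * n⁻¹)) * j⁻¹ by group, hyy]; group
    · have := mul_mem (P.R_le_K hjg) (hconj hja h₀)
      rwa [show q⁻¹ * (j * q₀ * j⁻¹) * (j * (q₀⁻¹ * (n * x * n⁻¹)) * j⁻¹) =
        q⁻¹ * (j * (n * x * n⁻¹) * j⁻¹) by group] at this
  have hcase : ∀ q ∈ Q, (∃ q' ∈ Q, q'⁻¹ * (n * q * n⁻¹) ∈ K) ∨ x⁻¹ * (n * q * n⁻¹) ∈ K := by
    intro q hq
    obtain ⟨q', hq', h' | h'⟩ := P.exists_decomp (hQ q hq)
    · exact Or.inl ⟨q', hq', h'⟩
    by_cases hR' : q' ∈ R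
    · right
      have := mul_mem (P.R_le_K hR') h'
      rwa [show q' * ((x * q')⁻¹ * (n * q * n⁻¹)) = x⁻¹ * (n * q * n⁻¹) by group] at this
    exfalso
    have hqR : q ∉ R := fun h => P.mul_notMem hq' (by
      have := mul_mem (hconj hn (P.R_le_K h)) (inv_mem h')
      rwa [show n * q * n⁻¹ * ((x * q')⁻¹ * (n * q * n⁻¹))⁻¹ = x * q' by group] at this)
    obtain ⟨w, hw, hwq⟩ := hex q hq hqR
    refine P.no_involution hq' hR' (y := n * w * n⁻¹) (by
      rw [show n * w * n⁻¹ * (n * w * n⁻¹) = n * (w * w) * n⁻¹ by group, hw]; group) ?_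
    have := mul_mem h' (hconj hn hwq)
    rwa [show (x * q')⁻¹ * (n * q * n⁻¹) * (n * (q⁻¹ * w) * n⁻¹) = (x * q')⁻¹ * (n * w * n⁻¹) by
      group] at this
  -- all of `Q` stays in `Q K`
  let N₀ : Subgroup G :=
    { carrier := {q | q ∈ Q ∧ ∃ q' ∈ Q, q'⁻¹ * (n * q * n⁻¹) ∈ K}
      one_mem' := ⟨one_mem _, 1, one_mem _, by simp⟩
      mul_mem' := by
        rintro q r ⟨hq, q', hq', h1⟩ ⟨hr, r', hr', h2⟩
        refine ⟨mul_mem hq hr, q' * r', mul_mem hq' hr', ?_⟩
        have := mul_mem (hconj (g := r'⁻¹) (inv_smul_eq_iff.2 (P.suzuki.fix_Q r' hr').symm) h1) h2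
        rwa [show r'⁻¹ * (q'⁻¹ * (n * q * n⁻¹)) * r'⁻¹⁻¹ * (r'⁻¹ * (n * r * n⁻¹)) =
          (q' * r')⁻¹ * (n * (q * r) * n⁻¹) by group] at this
      inv_mem' := by
        rintro q ⟨hq, q', hq', h1⟩
        refine ⟨inv_mem hq, q'⁻¹, inv_mem hq', ?_⟩
        have := hconj (P.suzuki.fix_Q q' hq') (inv_mem h1)
        rwa [show q' * (q'⁻¹ * (n * q * n⁻¹))⁻¹ * q'⁻¹ = q'⁻¹⁻¹ * (n * q⁻¹ * n⁻¹) by group]
          at this }
  have hN₀Q : N₀ ≤ Q := fun q hq => hq.1
  have hall : Q ≤ N₀ := by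
    by_contra hne
    obtain ⟨q₁, hq₁, hq₁N⟩ := SetLike.not_le_iff_exists.1 hne
    have hout : ∀ q ∈ Q, q ∉ N₀ → x⁻¹ * (n * q * n⁻¹) ∈ K := fun q hq hqN =>
      (hcase q hq).resolve_left fun h => hqN ⟨hq, h⟩
    -- the complement of `N₀` is at most one coset of `R`
    have hinj : Nat.card N₀ ≤ Nat.card R := by
      have hmem : ∀ u : N₀, q₁⁻¹ * (q₁ * (u : G)) ∈ R := fun u => by
        refine P.inf_K (mul_mem (inv_mem hq₁) (mul_mem hq₁ u.2.1)) (hback ?_)
        have hu : q₁ * (u : G) ∉ N₀ := fun h => hq₁N (by simpa using mul_mem h (inv_mem u.2))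
        have := mul_mem (inv_mem (hout q₁ hq₁ hq₁N)) (hout _ (mul_mem hq₁ u.2.1) hu)
        rwa [show (x⁻¹ * (n * q₁ * n⁻¹))⁻¹ * (x⁻¹ * (n * (q₁ * (u : G)) * n⁻¹)) =
          n * (q₁⁻¹ * (q₁ * (u : G))) * n⁻¹ by group] at this
      exact Nat.card_le_card_of_injective (fun u : N₀ => (⟨_, hmem u⟩ : R)) fun u v e =>
        Subtype.ext (mul_left_cancel (mul_left_cancel (congrArg Subtype.val e :)))
    -- and has index two
    have hcov : ∀ q : Q, ∃ b : Bool, ∃ u : N₀, (q : G) = cond b q₁ 1 * u := fun q => by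
      by_cases hqN : (q : G) ∈ N₀
      · exact ⟨false, ⟨q, hqN⟩, (one_mul _).symm⟩
      refine ⟨true, ⟨q₁⁻¹ * q, mul_mem (inv_mem hq₁) q.2, 1, one_mem _, ?_⟩,
        (mul_inv_cancel_left q₁ (q : G)).symm⟩
      have := mul_mem (inv_mem (hout q₁ hq₁ hq₁N)) (hout q q.2 hqN)
      rwa [show (x⁻¹ * (n * q₁ * n⁻¹))⁻¹ * (x⁻¹ * (n * (q : G) * n⁻¹)) =
        (1 : G)⁻¹ * (n * (q₁⁻¹ * (q : G)) * n⁻¹) by group] at this
    choose fb fu hf using hcov
    have hle := Nat.card_le_card_of_injective (fun q : Q => (fb q, fu q)) fun q q' e => by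
      obtain ⟨e1, e2⟩ := Prod.mk.inj e
      exact Subtype.ext (by rw [hf, hf, e1, e2])
    rw [Nat.card_prod, Nat.card_eq_fintype_card (α := Bool), Fintype.card_bool,
      P.suzuki.card_Q] at hle
    have := P.eight_le
    nlinarith
  -- so some element of `Q` has the image of `x`
  haveI : (R.subgroupOf Q).Normal := ⟨fun r hr q => by
    rw [Subgroup.mem_subgroupOf] at hr ⊢
    push_cast
    rw [P.Q_conj q.2 hr]
    exact hr⟩
  have hf : ∀ q : Q, ∃ q' : Q, (q' : G)⁻¹ * (n * (q : G) * n⁻¹) ∈ K := fun q => by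
    obtain ⟨-, q', hq', h⟩ := hall q.2
    exact ⟨⟨q', hq'⟩, h⟩
  choose f hf using hf
  let F : ↥Q ⧸ R.subgroupOf Q → ↥Q ⧸ R.subgroupOf Q := fun p => (f p.out : ↥Q ⧸ R.subgroupOf Q)
  have hF : Function.Injective F := fun p p' e => by
    have hd : (f p.out : G)⁻¹ * f p'.out ∈ R := Subgroup.mem_subgroupOf.1 (QuotientGroup.eq.1 e)
    have hK : ((p.out : Q) : G)⁻¹ * (p'.out : Q) ∈ K := hback (by
      have := mul_mem (mul_mem (inv_mem (hf p.out)) (P.R_le_K hd)) (hf p'.out)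
      rwa [show ((f p.out : G)⁻¹ * (n * (p.out : Q) * n⁻¹))⁻¹ * ((f p.out : G)⁻¹ * f p'.out) *
        ((f p'.out : G)⁻¹ * (n * (p'.out : Q) * n⁻¹)) =
          n * (((p.out : Q) : G)⁻¹ * (p'.out : Q)) * n⁻¹ by group] at this)
    rw [← p.out_eq', ← p'.out_eq']
    exact QuotientGroup.eq.2 (Subgroup.mem_subgroupOf.2
      (P.inf_K (mul_mem (inv_mem p.out.2) p'.out.2) hK))
  obtain ⟨p, hp⟩ := (Finite.injective_iff_surjective.1 hF) ((⟨q₀, hq₀⟩ : Q) : ↥Q ⧸ R.subgroupOf Q)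
  have hd : (f p.out : G)⁻¹ * q₀ ∈ R := Subgroup.mem_subgroupOf.1 (QuotientGroup.eq.1 hp)
  refine P.mul_notMem p.out.2 (hback ?_)
  have hK : (n * x * n⁻¹)⁻¹ * (n * (p.out : Q) * n⁻¹) ∈ K := by
    have := mul_mem (mul_mem (inv_mem h₀) (inv_mem (P.R_le_K hd))) (hf p.out)
    rwa [show (q₀⁻¹ * (n * x * n⁻¹))⁻¹ * ((f p.out : G)⁻¹ * q₀)⁻¹ *
      ((f p.out : G)⁻¹ * (n * (p.out : Q) * n⁻¹)) =
        (n * x * n⁻¹)⁻¹ * (n * (p.out : Q) * n⁻¹) by group] at this
  rwa [show (n * x * n⁻¹)⁻¹ * (n * (p.out : Q) * n⁻¹) = n * (x⁻¹ * (p.out : Q)) * n⁻¹ by group,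
    P.x_inv] at hK

theorem le_coset : S ≤ coset x Q K := by
  haveI : Fact (Nat.Prime 2) := ⟨Nat.prime_two⟩
  by_contra hne
  haveI : Group.IsNilpotent S := P.top.top.1.isNilpotent
  set H := (coset x Q K).subgroupOf S with hH
  have hlt : H < ⊤ := lt_top_iff_ne_top.2 fun e => hne (Subgroup.subgroupOf_eq_top.1 e)
  obtain ⟨s, hs, hsH⟩ := SetLike.exists_of_lt
    (Group.normalizerCondition_of_isNilpotent (G := S) H hlt)
  have hxc : x ∈ coset x Q K :=
    Subgroup.mem_sup_left (Subgroup.mem_sup_right (Subgroup.mem_zpowers x))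
  have hmap : ∀ c : G, ∀ hcS : c ∈ S, c ∈ coset x Q K → (s : G) * c * (s : G)⁻¹ ∈ coset x Q K :=
    fun c hcS hc => Subgroup.mem_subgroupOf.1
      ((Subgroup.mem_normalizer_iff.1 hs ⟨c, hcS⟩).1 (Subgroup.mem_subgroupOf.2 hc))
  have hK := P.congr_of_maps (mem_stabilizer_iff.1 (P.top.top.2.1 s.2)) (hmap x P.top.mem hxc)
    (fun q hq => hmap q (P.le_S hq) (Subgroup.mem_sup_left (Subgroup.mem_sup_left hq)))
  set t := x⁻¹ * ((s : G) * x * (s : G)⁻¹) with ht
  have htT : t ∈ S ⊓ K :=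
    ⟨S.mul_mem (S.inv_mem P.top.mem) (S.mul_mem (S.mul_mem s.2 P.top.mem) (S.inv_mem s.2)), hK⟩
  have hst : (s : G) * x * (s : G)⁻¹ = x * t := (mul_inv_cancel_left x _).symm
  have hxt : Commute x t := by
    have h1 : x * t * (x * t) = 1 := by
      rw [← hst, show (s : G) * x * (s : G)⁻¹ * ((s : G) * x * (s : G)⁻¹) =
        s * (x * x) * (s : G)⁻¹ by group, P.top.x_sq]; group
    have h3 : x * t = (x * t)⁻¹ := eq_inv_of_mul_eq_one_left h1
    rwa [mul_inv_rev, inv_eq_of_mul_eq_one_right (P.T_sq htT), P.x_inv] at h3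
  obtain ⟨z, hz, hzx⟩ := P.top.exists_shift P.setting (P.mem_R_T htT hxt)
  have hc : Commute x (z⁻¹ * (s : G)) := by
    have e : z⁻¹ * (s : G) * x * (z⁻¹ * (s : G))⁻¹ = x := by
      calc z⁻¹ * (s : G) * x * (z⁻¹ * (s : G))⁻¹ = z⁻¹ * ((s : G) * x * (s : G)⁻¹) * z := by group
        _ = z⁻¹ * (z * x * z⁻¹) * z := by rw [hst, ← hzx]
        _ = x := by group
    exact (mul_inv_eq_iff_eq_mul.1 e).symm
  obtain ⟨q, hq, hqe⟩ := P.exists_of_comm (mul_mem (inv_mem hz.1.1) s.2) hc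
  refine hsH (Subgroup.mem_subgroupOf.2 ?_)
  have hzc : z ∈ coset x Q K := Subgroup.mem_sup_right hz.1.2
  have hqc : q ∈ coset x Q K := Subgroup.mem_sup_left (Subgroup.mem_sup_left hq)
  have h1 : z⁻¹ * (s : G) ∈ coset x Q K := by
    rcases hqe with e | e <;> rw [e]
    exacts [hqc, mul_mem hqc hxc]
  simpa using mul_mem hzc h1

theorem commutator_mem {s t : G} (hs : s ∈ S) (ht : t ∈ S) : ⁅s, t⁆ ∈ K := by
  set M := stabilizer G a with hM
  haveI hKn : (K.subgroupOf M).Normal := ⟨fun k hk g => P.top.line.point.conj g g.2 k hk⟩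
  set π := QuotientGroup.mk' (K.subgroupOf M) with hπ
  have hπ1 : ∀ g : M, π g = 1 ↔ (g : G) ∈ K := fun g =>
    (QuotientGroup.eq_one_iff g).trans Subgroup.mem_subgroupOf
  let xM : M := ⟨x, P.top.top.2.1 P.top.mem⟩
  let qM : ∀ q ∈ Q, M := fun q hq => ⟨q, P.top.top.2.1 (P.le_S hq)⟩
  have hrep : ∀ (g : G) (hg : g ∈ S),
      ∃ q, ∃ hq : q ∈ Q, π ⟨g, P.top.top.2.1 hg⟩ = π (qM q hq) ∨
        π ⟨g, P.top.top.2.1 hg⟩ = π xM * π (qM q hq) := by
    intro g hg
    obtain ⟨q, hq, h | h⟩ := P.exists_decomp (P.le_coset hg)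
    · refine ⟨q, hq, Or.inl ?_⟩
      rw [eq_comm, ← inv_mul_eq_one, ← map_inv, ← map_mul, hπ1]
      exact h
    · refine ⟨q, hq, Or.inr ?_⟩
      rw [← map_mul, eq_comm, ← inv_mul_eq_one, ← map_inv, ← map_mul, hπ1]
      exact h
  have hqq : ∀ q, ∀ hq : q ∈ Q, ∀ q', ∀ hq' : q' ∈ Q,
      Commute (π (qM q hq)) (π (qM q' hq')) := fun q hq q' hq' => by
    rw [← commutatorElement_eq_one_iff_commute, ← map_commutatorElement, hπ1]
    exact P.R_le_K (P.polar_mem hq hq')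
  have hxq : ∀ q, ∀ hq : q ∈ Q, Commute (π xM) (π (qM q hq)) := fun q hq =>
    (show Commute xM (qM q hq) from Subtype.ext (P.suzuki.comm q hq).eq).map π
  have hcomm : Commute (π ⟨s, P.top.top.2.1 hs⟩) (π ⟨t, P.top.top.2.1 ht⟩) := by
    obtain ⟨q, hq, e | e⟩ := hrep s hs <;> obtain ⟨q', hq', e' | e'⟩ := hrep t ht <;> rw [e, e']
    · exact hqq q hq q' hq'
    · exact (hxq q hq).symm.mul_right (hqq q hq q' hq')
    · exact (hxq q' hq').mul_left (hqq q hq q' hq')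
    · exact ((Commute.refl _).mul_right (hxq q' hq')).mul_left
        ((hxq q hq).symm.mul_right (hqq q hq q' hq'))
  have := (commutatorElement_eq_one_iff_commute).2 hcomm
  rw [← map_commutatorElement, hπ1] at this
  exact this

theorem congr_of_conj {g : G} (hg : g • a = a) (hgS : g * x * g⁻¹ ∈ S) :
    x⁻¹ * (g * x * g⁻¹) ∈ K := by
  haveI : Fact (Nat.Prime 2) := ⟨Nat.prime_two⟩
  set M := stabilizer G a with hM
  haveI hKn : (K.subgroupOf M).Normal := ⟨fun k hk g => P.top.line.point.conj g g.2 k hk⟩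
  set π := QuotientGroup.mk' (K.subgroupOf M) with hπ
  have hπ1 : ∀ g : M, π g = 1 ↔ (g : G) ∈ K := fun g =>
    (QuotientGroup.eq_one_iff g).trans Subgroup.mem_subgroupOf
  set y : G := g * x * g⁻¹ with hy
  let yM : M := ⟨y, P.top.top.2.1 hgS⟩
  let gM : M := ⟨g, mem_stabilizer_iff.2 hg⟩
  set C := (Subgroup.centralizer ({π yM} : Set (M ⧸ K.subgroupOf M))).comap π with hC
  have hmemC : ∀ m : M, ⁅(m : G), y⁆ ∈ K → m ∈ C := fun m hm => by
    refine Subgroup.mem_comap.2 (Subgroup.mem_centralizer_singleton_iff.2 ?_)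
    rw [← commutatorElement_eq_one_iff_mul_comm, ← map_commutatorElement, hπ1]
    exact hm
  -- two top subgroups in `C`
  let T₁ : Sylow 2 M :=
    { toSubgroup := S.subgroupOf M
      isPGroup' := P.top.top.1.comap_subtype
      is_maximal' := fun {V} hV hle => by
        refine le_antisymm (fun v hv => ?_) hle
        have := P.top.top.2.2 (V.map M.subtype) (hV.map _) (Subgroup.map_subtype_le V)
          (fun s hs => ⟨⟨s, P.top.top.2.1 hs⟩, hle hs, rfl⟩)
        exact this.le ⟨v, hv, rfl⟩ }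
  have hle₁ : (T₁ : Subgroup M) ≤ C := fun m hm => hmemC m (P.commutator_mem hm hgS)
  have hle₂ : ((gM • T₁ : Sylow 2 M) : Subgroup M) ≤ C := fun m hm => by
    rw [Sylow.coe_subgroup_smul, Subgroup.mem_pointwise_smul_iff_inv_smul_mem] at hm
    refine hmemC m ?_
    have hm' : g⁻¹ * (m : G) * g ∈ S := by
      have : (((MulAut.conj gM)⁻¹ • m : M) : G) ∈ S := hm
      simpa using this
    have := P.suzuki.toCurvedLine.conj_K hg (P.commutator_mem hm' P.top.mem)
    convert this using 1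
    rw [hy, commutatorElement_def, commutatorElement_def]
    group
  obtain ⟨m, hm⟩ := MulAction.exists_smul_eq C ((gM • T₁).subtype hle₂) (T₁.subtype hle₁)
  set n : M := (m : M) * gM with hn
  have hnS : ∀ s ∈ S, (n : G) * s * (n : G)⁻¹ ∈ S := by
    intro s hs
    have hs' : gM * ⟨s, P.top.top.2.1 hs⟩ * gM⁻¹ ∈ ((gM • T₁ : Sylow 2 M) : Subgroup M) := by
      rw [Sylow.coe_subgroup_smul]
      exact Subgroup.smul_mem_pointwise_smul (⟨s, P.top.top.2.1 hs⟩ : M) _ _ hs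
    have h1 : MulAut.conj m (⟨_, hle₂ hs'⟩ : C) ∈
        ((m • (gM • T₁).subtype hle₂ : Sylow 2 C) : Subgroup C) := by
      rw [Sylow.coe_subgroup_smul]
      exact Subgroup.smul_mem_pointwise_smul _ _ _ hs'
    rw [hm] at h1
    have h2 : ((m : M) : G) * (g * s * g⁻¹) * ((m : M) : G)⁻¹ ∈ S := h1
    show ((m : M) : G) * g * s * (((m : M) : G) * g)⁻¹ ∈ S
    rwa [show ((m : M) : G) * g * s * (((m : M) : G) * g)⁻¹ =
      ((m : M) : G) * (g * s * g⁻¹) * ((m : M) : G)⁻¹ by group]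
  have h3 := P.congr_of_maps (mem_stabilizer_iff.1 n.2) (P.le_coset (hnS x P.top.mem))
    (fun q hq => P.le_coset (hnS q (P.le_S hq)))
  have hmy : ⁅((m : M) : G), y⁆ ∈ K := by
    have := m.2
    have := Subgroup.mem_comap.1 this
    rw [Subgroup.mem_centralizer_singleton_iff,
      ← commutatorElement_eq_one_iff_mul_comm, ← map_commutatorElement, hπ1] at this
    exact this
  have e : (n : G) * x * (n : G)⁻¹ = ⁅((m : M) : G), y⁆ * y := by
    show ((m : M) : G) * g * x * (((m : M) : G) * g)⁻¹ = _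
    rw [hy, commutatorElement_def]; group
  rw [e] at h3
  have hk : x⁻¹ * ⁅((m : M) : G), y⁆⁻¹ * x ∈ K := by
    have := P.suzuki.toCurvedLine.conj_K (g := x⁻¹)
      (by rw [P.x_inv]; exact P.suzuki.fix) (inv_mem hmy)
    rwa [inv_inv] at this
  have := mul_mem hk h3
  rwa [show x⁻¹ * ⁅((m : M) : G), y⁆⁻¹ * x * (x⁻¹ * (⁅((m : M) : G), y⁆ * y)) = x⁻¹ * y by
    group] at this

/-- No moved top on a Suzuki line with `Q` outside the maximal point group. -/
theorem false (hgen : Subgroup.closure D = ⊤) : False :=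
  false_of_abelian P.setting hgen (fun g hg k hk => P.suzuki.toCurvedLine.conj_K hg hk)
    (fun d hd hda => P.top.line.point.dat_le d ⟨hd, hda⟩) P.top.top P.suzuki.bad.1 P.top.mem
    P.x_notMem (fun _ hs _ ht => P.commutator_mem hs ht) fun _ hg hgS => P.congr_of_conj hg hgS

end ShearTop

end CfsgLib.LocalEven.OnePointFront.Nonfull.Moved

namespace CfsgLib.LocalEven.OnePointFront.Nonfull

universe u

open CfsgLib.LocalEven.TIEndgame

variable {G Ω : Type u} [Group G] [MulAction G Ω] [Finite G] [Finite Ω] [FaithfulSMul G Ω]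
  {D : Set G} {a : Ω} {x : G} {K R Q J : Subgroup G}

/-- No moved case on a Suzuki line with `Q` outside the maximal point group. -/
theorem MovedCase.false_of_suzuki (hM : MovedCase D a x K R Q J) (L : SuzukiLine D a x K R Q J)
    (h : ClosedSetting D Ω) (hgen : Subgroup.closure D = ⊤) (hmax : MaxRank D Ω R)
    (hK : MaxPointGroup D a K) (hQK : ¬ Q ≤ K) : False := by
  obtain ⟨S, hS, hQS, hlift⟩ := hM
  exact Moved.ShearTop.false (S := S) ⟨hS, L, h, hmax, hK, hQS, hQK, hlift⟩ hgen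

end CfsgLib.LocalEven.OnePointFront.Nonfull
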