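import Cfsg.Agent.Lib.LocalEven.OnePointFront.Nonfull.Curved.Shear
import Mathlib.FieldTheory.Finite.GaloisField

/-!
# Shears of a square map with a commutative transitive group

`sq : E → R` is a bijection with biadditive non-zero polarisation and `T` a set of pairs of
automorphisms commuting with it, commutative and transitive on `R`.  An equivariant non-zero
pairing `E × R → R` is then non-singular: it maps onto `R` in the first argument.
-/

set_option autoImplicit false
set_option linter.style.haveILetI false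

namespace CfsgLib.LocalEven.OnePointFront.Nonfull.Moved

universe u v

/-- A commutative transitive set of automorphisms gives coordinates in a field. -/
theorem exists_coords {R : Type u} [AddCommGroup R] [Finite R] (h2 : ∀ r : R, r + r = 0)
    (B : Set (R ≃+ R)) (hcomm : ∀ b ∈ B, ∀ b' ∈ B, ∀ r, b (b' r) = b' (b r))
    (htr : ∀ r s : R, r ≠ 0 → s ≠ 0 → ∃ b ∈ B, b r = s) {r₀ : R} (hr₀ : r₀ ≠ 0) :
    ∃ (F : Type u) (_ : Field F) (_ : Finite F) (_ : CharP F 2) (φ : R ≃+ F), φ r₀ = 1 ∧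
      ∀ b ∈ B, ∀ r, φ (b r) = φ (b r₀) * φ r := by
  classical
  let act : (R ≃+ R) → AddMonoid.End R := fun b => b.toAddMonoidHom
  set K := Subring.closure (act '' B) with hK
  haveI : Finite (AddMonoid.End R) := Finite.of_injective _ DFunLike.coe_injective
  have hc : ∀ p q : K, p * q = q * p := by
    have h : ∀ p ∈ act '' B, ∀ q ∈ act '' B, p * q = q * p := by
      rintro _ ⟨b, hb, rfl⟩ _ ⟨b', hb', rfl⟩
      exact AddMonoidHom.ext fun r => hcomm b hb b' hb' r
    intro p q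
    exact (Subring.isMulCommutative_closure h).is_comm.comm p q
  letI : CommRing K := { (inferInstance : Ring K) with mul_comm := hc }
  let ev : K →+ R :=
    { toFun := fun k => (k : AddMonoid.End R) r₀
      map_zero' := rfl
      map_add' := fun _ _ => rfl }
  have hmem : ∀ b ∈ B, act b ∈ K := fun b hb => Subring.subset_closure ⟨b, hb, rfl⟩
  have hsurj : Function.Surjective ev := fun r => by
    by_cases hr : r = 0
    · exact ⟨0, hr.symm⟩
    obtain ⟨b, hb, e⟩ := htr r₀ r hr₀ hr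
    exact ⟨⟨act b, hmem b hb⟩, e⟩
  have hinj : Function.Injective ev := fun p q h => Subtype.ext (AddMonoidHom.ext fun r => by
    obtain ⟨k, rfl⟩ := hsurj r
    have e : ∀ t : K, (t : AddMonoid.End R) (ev k) = (k : AddMonoid.End R) (ev t) := fun t =>
      DFunLike.congr_fun (congrArg Subtype.val (hc t k)) r₀
    exact (e p).trans ((congrArg ((k : AddMonoid.End R) ·) h).trans (e q).symm))
  have hF : IsField K := by
    refine ⟨⟨0, 1, fun h => hr₀ (congrArg ev h).symm⟩, mul_comm, fun {k} hk => ?_⟩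
    have hk0 : ev k ≠ 0 := fun h => hk (hinj h)
    obtain ⟨b, hb, e⟩ := htr (ev k) r₀ hk0 hr₀
    exact ⟨⟨act b, hmem b hb⟩, by rw [mul_comm]; exact hinj e⟩
  letI := hF.toField
  haveI : Finite K := Finite.of_injective ev hinj
  let ψ : K ≃+ R := AddEquiv.ofBijective ev ⟨hinj, hsurj⟩
  have h1 : ψ.symm r₀ = 1 := ψ.injective (by rw [ψ.apply_symm_apply]; rfl)
  refine ⟨K, inferInstance, inferInstance,
    CharTwo.of_one_ne_zero_of_two_eq_zero one_ne_zero (hinj (by
      show ((2 : K) : AddMonoid.End R) r₀ = 0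
      rw [← one_add_one_eq_two]
      exact h2 r₀)), ψ.symm, h1, fun b hb r => ψ.injective ?_⟩
  rw [ψ.apply_symm_apply]
  obtain ⟨k, rfl⟩ := ψ.surjective r
  rw [ψ.symm_apply_apply]
  have e : ψ.symm (b r₀) = ⟨act b, hmem b hb⟩ := ψ.injective (by rw [ψ.apply_symm_apply]; rfl)
  rw [e]
  rfl

/-- An equivariant non-zero pairing `E × R → R` maps onto `R` in the first argument. -/
theorem shear_surjective {E R : Type u} [AddCommGroup E] [AddCommGroup R] [Finite E] [Finite R]
    (hE2 : ∀ e : E, e + e = 0) (hR2 : ∀ r : R, r + r = 0) (hR : 8 ≤ Nat.card R)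
    (sq : E → R) (hsq : Function.Bijective sq) (hsq0 : sq 0 = 0)
    (hPl : ∀ a b c : E, sq (a + b + c) + sq (a + b) + sq c =
      sq (a + c) + sq a + sq c + (sq (b + c) + sq b + sq c))
    (hP : ∃ a b : E, sq (a + b) ≠ sq a + sq b)
    (T : Set ((E ≃+ E) × (R ≃+ R))) (hTc : ∀ p ∈ T, ∀ q ∈ T, ∀ r, p.2 (q.2 r) = q.2 (p.2 r))
    (hTs : ∀ p ∈ T, ∀ e, sq (p.1 e) = p.2 (sq e))
    (hTt : ∀ r s : R, r ≠ 0 → s ≠ 0 → ∃ p ∈ T, p.2 r = s)
    (β : E → R → R) (hl : ∀ a b r, β (a + b) r = β a r + β b r)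
    (hr : ∀ e r s, β e (r + s) = β e r + β e s)
    (heq : ∀ p ∈ T, ∀ e r, β (p.1 e) (p.2 r) = p.2 (β e r))
    (hne : ∃ e r, β e r ≠ 0) {w : R} (hw : w ≠ 0) : ∀ s : R, ∃ e, β e w = s := by
  classical
  haveI : Fintype R := Fintype.ofFinite R
  obtain ⟨r₀, hr₀⟩ : ∃ r : R, r ≠ 0 := by
    haveI : Nontrivial R := Finite.one_lt_card_iff_nontrivial.1 (by omega)
    exact exists_ne 0
  obtain ⟨e₀, rfl⟩ := hsq.2 r₀
  have he₀ : e₀ ≠ 0 := fun h => hr₀ (by rw [h, hsq0])
  -- coordinates on both groups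
  obtain ⟨F₁, _, _, _, φE, hφE1, hφE⟩ := exists_coords hE2 (Prod.fst '' T)
    (by
      rintro _ ⟨p, hp, rfl⟩ _ ⟨q, hq, rfl⟩ e
      exact hsq.1 (by rw [hTs p hp, hTs q hq, hTs q hq, hTs p hp, hTc p hp q hq]))
    (fun a b ha hb => by
      obtain ⟨p, hp, e⟩ := hTt (sq a) (sq b) (fun h => ha (hsq.1 (h.trans hsq0.symm)))
        (fun h => hb (hsq.1 (h.trans hsq0.symm)))
      exact ⟨p.1, ⟨p, hp, rfl⟩, hsq.1 (by rw [hTs p hp, e])⟩) he₀
  obtain ⟨F, _, _, _, φR, hφR1, hφR⟩ := exists_coords hR2 (Prod.snd '' T)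
    (by rintro _ ⟨p, hp, rfl⟩ _ ⟨q, hq, rfl⟩ r; exact hTc p hp q hq r)
    (fun a b ha hb => by
      obtain ⟨p, hp, e⟩ := hTt a b ha hb
      exact ⟨p.2, ⟨p, hp, rfl⟩, e⟩) hr₀
  haveI : Fintype F := Fintype.ofFinite F
  haveI : Fintype F₁ := Fintype.ofFinite F₁
  have hcard : Fintype.card F₁ = Fintype.card F := by
    rw [← Nat.card_eq_fintype_card, ← Nat.card_eq_fintype_card, ← Nat.card_congr φE.toEquiv,
      ← Nat.card_congr φR.toEquiv, Nat.card_eq_of_bijective sq hsq]
  let ι : F₁ ≃+* F := FiniteField.ringEquivOfCardEq hcard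
  set φ : E ≃+ F := φE.trans ι.toAddEquiv with hφ
  have hφ1 : φ e₀ = 1 := by
    show ι (φE e₀) = 1
    rw [hφE1, map_one]
  have hsym : φ.symm 1 = e₀ := φ.injective (by rw [φ.apply_symm_apply, hφ1])
  have hφm : ∀ p ∈ T, ∀ e, φ (p.1 e) = φ (p.1 e₀) * φ e := fun p hp e => by
    show ι (φE (p.1 e)) = ι (φE (p.1 e₀)) * ι (φE e)
    rw [← map_mul, hφE p.1 ⟨p, hp, rfl⟩]
  have hT' : ∀ μ : F, μ ≠ 0 → ∃ p ∈ T, φ (p.1 e₀) = μ := fun μ hμ => by
    have hm : φ.symm μ ≠ 0 := fun h => hμ (by rw [← φ.apply_symm_apply μ, h, map_zero])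
    obtain ⟨p, hp, e⟩ := hTt (sq e₀) (sq (φ.symm μ)) hr₀
      (fun h => hm (hsq.1 (h.trans hsq0.symm)))
    refine ⟨p, hp, ?_⟩
    rw [hsq.1 (show sq (p.1 e₀) = sq (φ.symm μ) by rw [hTs p hp, e])]
    exact φ.apply_symm_apply μ
  -- the square map in coordinates
  let N : F → F := fun x => φR (sq (φ.symm x))
  have hN1 : N 1 = 1 := by
    show φR (sq (φ.symm 1)) = 1
    rw [hsym, hφR1]
  have hN0 : N 0 = 0 := by
    show φR (sq (φ.symm 0)) = 0
    rw [map_zero, hsq0, map_zero]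
  have hscal : ∀ p ∈ T, ∀ r, φR (p.2 r) = N (φ (p.1 e₀)) * φR r := fun p hp r => by
    rw [hφR p.2 ⟨p, hp, rfl⟩]
    show φR (p.2 (sq e₀)) * φR r = φR (sq (φ.symm (φ (p.1 e₀)))) * φR r
    rw [φ.symm_apply_apply, hTs p hp]
  have hNm : ∀ x y, N (x * y) = N x * N y := by
    intro x y
    by_cases hx : x = 0
    · rw [hx, zero_mul, hN0, zero_mul]
    obtain ⟨p, hp, rfl⟩ := hT' x hx
    have : φ.symm (φ (p.1 e₀) * y) = p.1 (φ.symm y) := φ.injective (by
      rw [φ.apply_symm_apply, hφm p hp (φ.symm y), φ.apply_symm_apply])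
    show φR (sq (φ.symm (φ (p.1 e₀) * y))) = _
    rw [this, hTs p hp, hscal p hp]
  let NN : F →*₀ F := { toFun := N, map_zero' := hN0, map_one' := hN1, map_mul' := hNm }
  have hNne : ∀ x : F, x ≠ 0 → N x ≠ 0 := fun x hx h => hx (by
    have h' : sq (φ.symm x) = 0 := φR.injective (h.trans (map_zero φR).symm)
    rw [← φ.apply_symm_apply x, hsq.1 (h'.trans hsq0.symm), map_zero])
  obtain ⟨g₀, hg₀⟩ : ∃ x : F, x ^ 4 ≠ x := by
    by_contra hcon
    push Not at hcon
    have hcF : 8 ≤ Fintype.card F := by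
      rw [← Nat.card_eq_fintype_card, ← Nat.card_congr φR.toEquiv]; exact hR
    have h0 : (Polynomial.X ^ 4 - Polynomial.X : Polynomial F) ≠ 0 :=
      FiniteField.X_pow_card_sub_X_ne_zero F (by norm_num)
    have hsub : (Finset.univ : Finset F).val ≤ (Polynomial.X ^ 4 - Polynomial.X : Polynomial F).roots := by
      rw [Finset.val_le_iff_val_subset]
      intro x _
      simp [Polynomial.mem_roots h0, hcon x]
    have h4 := (Multiset.card_le_card hsub).trans (Polynomial.card_roots' _)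
    rw [FiniteField.X_pow_card_sub_X_natDegree_eq F (by norm_num)] at h4
    simp only [Finset.card_val, Finset.card_univ] at h4
    omega
  -- the polarisation gives `N` as a product of two homomorphisms
  let P : F → F → F := fun x y => N (x + y) + N x + N y
  have hPl' : ∀ a b y, P (a + b) y = P a y + P b y := fun a b y => by
    have e := congrArg φR (hPl (φ.symm a) (φ.symm b) (φ.symm y))
    simp only [← map_add φ.symm] at e
    simp only [map_add] at e
    simp only [P, N]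
    simp only [map_add φ.symm] at e ⊢
    exact e
  have hPs : ∀ a b, P a b = P b a := fun a b => by
    show N (a + b) + N a + N b = N (b + a) + N b + N a
    rw [add_comm b a]; ring
  have hPeq : ∀ μ, μ ≠ 0 → ∀ y, P μ ((MonoidWithZeroHom.id F) μ * y) = NN μ * P 1 y := fun μ _ y => by
    show N (μ + μ * y) + N μ + N (μ * y) = N μ * (N (1 + y) + N 1 + N y)
    rw [show μ + μ * y = μ * (1 + y) by ring, hNm, hNm, hN1]; ring
  obtain ⟨S, a, χ, hχ, hB⟩ := Shear.exists_weights P hPl'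
    (fun x a b => by rw [hPs, hPl', hPs a, hPs b]) (MonoidWithZeroHom.id F) NN
    (fun x hx => hx) hPeq
  obtain ⟨σ₀, hσ₀⟩ : S.Nonempty := by
    rw [Finset.nonempty_iff_ne_empty]
    intro hS
    obtain ⟨x, y, hxy⟩ := hP
    refine hxy (φR.injective ?_)
    have := hB (φ x) (φ y)
    rw [hS, Finset.sum_empty] at this
    simp only [P, N, φ.symm_apply_apply, ← map_add φ] at this
    rw [map_add, ← CharTwo.add_eq_zero]
    rw [← this]; ring
  obtain ⟨α, γ, hαγ, hNe⟩ : ∃ α γ : F →+* F, α ≠ γ ∧ ∀ x, α x * γ x = N x := by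
    refine ⟨χ σ₀, σ₀, fun hh => ?_, hχ σ₀ hσ₀⟩
    obtain ⟨x, y, hxy⟩ := hP
    have hN2 : ∀ z, N z = σ₀ z * σ₀ z := fun z => by
      show NN z = _
      rw [← hχ σ₀ hσ₀ z, hh]
      rfl
    refine hxy (φR.injective ?_)
    have e : N (φ x + φ y) = N (φ x) + N (φ y) := by
      rw [hN2, hN2, hN2, map_add]
      exact CharTwo.add_mul_self _ _
    simp only [N, φ.symm_apply_apply, ← map_add φ] at e
    rw [e, map_add]
  -- the shear in coordinates
  let B : F → F → F := fun x y => φR (β (φ.symm x) (φR.symm y))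
  have hBeq : ∀ μ, μ ≠ 0 → ∀ y, B μ (NN μ * y) = NN μ * B 1 y := fun μ hμ y => by
    obtain ⟨p, hp, rfl⟩ := hT' μ hμ
    show φR (β (φ.symm (φ (p.1 e₀))) (φR.symm (N (φ (p.1 e₀)) * y))) =
      N (φ (p.1 e₀)) * φR (β (φ.symm 1) (φR.symm y))
    have e : φR.symm (N (φ (p.1 e₀)) * y) = p.2 (φR.symm y) := φR.injective (by
      rw [φR.apply_symm_apply, hscal p hp, φR.apply_symm_apply])
    rw [e, φ.symm_apply_apply, hsym, heq p hp, hscal p hp]
  obtain ⟨S', a', χ', hχ', hB'⟩ := Shear.exists_weights B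
    (fun a b y => by simp only [B]; rw [map_add, hl, map_add])
    (fun x a b => by simp only [B]; rw [map_add, hr, map_add]) NN NN hNne hBeq
  have key : ∀ σ ∈ S', (σ.comp γ = α ∧ χ' σ = σ.comp α ∧ Shear.sqr.comp (σ.comp α) = γ) ∨
      (σ.comp α = γ ∧ χ' σ = σ.comp γ ∧ Shear.sqr.comp (σ.comp γ) = α) := by
    intro σ hσ
    have h3 : ∀ x, χ' σ x * σ.comp α x * σ.comp γ x = α x * γ x := fun x => by
      rw [RingHom.comp_apply, RingHom.comp_apply, mul_assoc, ← map_mul, hNe]
      exact (hχ' σ hσ x).trans rfl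
    have hsqr : ∀ δ : F →+* F, Shear.sqr.comp δ ≠ δ := fun δ e => hg₀ (by
      obtain ⟨z, hz⟩ := Finite.injective_iff_surjective.1 δ.injective g₀
      have h := RingHom.congr_fun e z
      rw [RingHom.comp_apply, Shear.sqr_apply, hz] at h
      rw [show g₀ ^ 4 = g₀ * g₀ * (g₀ * g₀) by ring, h, h])
    rcases Shear.three_hom h3 with e | e | e
    · rcases Shear.two_hom (α := Shear.sqr.comp (σ.comp α)) (β := σ.comp γ) (fun x => by
        rw [← h3 x, e, RingHom.comp_apply Shear.sqr, Shear.sqr_apply]) with ⟨e1, e2⟩ | ⟨e1, e2⟩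
      · have hid : σ = RingHom.id F := RingHom.ext fun z => by
          obtain ⟨x, rfl⟩ := Finite.injective_iff_surjective.1 γ.injective z
          exact RingHom.congr_fun e2 x
        rw [hid, RingHom.id_comp] at e1
        exact absurd e1 (hsqr α)
      · exact Or.inl ⟨e2, e, e1⟩
    · exact absurd (RingHom.ext fun x => σ.injective (RingHom.congr_fun e x)) hαγ
    · rcases Shear.two_hom (α := σ.comp α) (β := Shear.sqr.comp (σ.comp γ)) (fun x => by
        rw [← h3 x, ← e, RingHom.comp_apply Shear.sqr, Shear.sqr_apply]; ring) with ⟨e1, e2⟩ | ⟨e1, e2⟩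
      · have hid : σ = RingHom.id F := RingHom.ext fun z => by
          obtain ⟨x, rfl⟩ := Finite.injective_iff_surjective.1 α.injective z
          exact RingHom.congr_fun e1 x
        rw [hid, RingHom.id_comp] at e2
        exact absurd e2 (hsqr γ)
      · exact Or.inr ⟨e1, e.symm, e2⟩
  obtain ⟨σ₁, hσ₁⟩ : S'.Nonempty := by
    rw [Finset.nonempty_iff_ne_empty]
    intro hS
    obtain ⟨e, r, her⟩ := hne
    refine her (φR.injective ?_)
    have := hB' (φ e) (φR r)
    rw [hS, Finset.sum_empty] at this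
    simp only [B, φ.symm_apply_apply, φR.symm_apply_apply] at this
    rw [this, map_zero]
  -- only one weight occurs
  have huniq : ∀ σ ∈ S', σ = σ₁ := by
    have hboth : ∀ σ τ : F →+* F, Shear.sqr.comp (σ.comp α) = γ → τ.comp α = γ →
        Shear.sqr.comp (τ.comp γ) = α → σ.comp γ = α → False := by
      intro σ τ h1 h2 h3 h4
      refine hg₀ ?_
      obtain ⟨z, hz⟩ := Finite.injective_iff_surjective.1 α.injective g₀
      have a1 : α z = τ (γ z) * τ (γ z) := by
        rw [← RingHom.congr_fun h3 z, RingHom.comp_apply, Shear.sqr_apply]; rfl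
      have a2 : τ (γ z) = τ (σ (α z)) * τ (σ (α z)) := by
        rw [← RingHom.congr_fun h1 z, RingHom.comp_apply, Shear.sqr_apply, map_mul]; rfl
      obtain ⟨t, ht⟩ := Finite.injective_iff_surjective.1 γ.injective (α z)
      have a3 : τ (σ (α z)) = α z := by
        calc τ (σ (α z)) = τ (σ.comp γ t) := by rw [RingHom.comp_apply, ht]
          _ = τ.comp α t := by rw [h4]; rfl
          _ = α z := by rw [h2, ht]
      rw [a3] at a2
      rw [a2, hz] at a1
      rw [show g₀ ^ 4 = g₀ * g₀ * (g₀ * g₀) by ring]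
      exact a1.symm
    intro σ hσ
    rcases key σ hσ with ⟨h1, -, h1'⟩ | ⟨h1, -, h1'⟩ <;> rcases key σ₁ hσ₁ with ⟨h2, -, h2'⟩ | ⟨h2, -, h2'⟩
    · exact RingHom.ext fun z => by
        obtain ⟨x, rfl⟩ := Finite.injective_iff_surjective.1 γ.injective z
        exact RingHom.congr_fun (h1.trans h2.symm) x
    · exact (hboth σ σ₁ h1' h2 h2' h1).elim
    · exact (hboth σ₁ σ h2' h1 h1' h2).elim
    · exact RingHom.ext fun z => by
        obtain ⟨x, rfl⟩ := Finite.injective_iff_surjective.1 α.injective z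
        exact RingHom.congr_fun (h1.trans h2.symm) x
  have hBf : ∀ x y, B x y = a' σ₁ * (χ' σ₁ x * σ₁ y) := fun x y => by
    rw [hB' x y, Finset.sum_eq_single σ₁ (fun σ hσ h => absurd (huniq σ hσ) h)
      (fun h => absurd hσ₁ h)]
  have ha : a' σ₁ ≠ 0 := fun h => by
    obtain ⟨e, r, her⟩ := hne
    refine her (φR.injective ?_)
    have := hBf (φ e) (φR r)
    rw [h, zero_mul] at this
    simp only [B, φ.symm_apply_apply, φR.symm_apply_apply] at this
    rw [this, map_zero]
  intro s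
  have hσw : σ₁ (φR w) ≠ 0 := (map_ne_zero σ₁).2 fun h => hw ((map_eq_zero_iff φR φR.injective).1 h)
  obtain ⟨x, hx⟩ := Finite.injective_iff_surjective.1 (χ' σ₁).injective
    (φR s / (a' σ₁ * σ₁ (φR w)))
  refine ⟨φ.symm x, φR.injective ?_⟩
  have := hBf x (φR w)
  simp only [B, φR.symm_apply_apply] at this
  rw [this, hx]
  field_simp

end CfsgLib.LocalEven.OnePointFront.Nonfull.Moved
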