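import Cfsg.Agent.Lib.LocalEven.OnePointFront.Nonfull.Linear.FieldInvolution
import Cfsg.Agent.Lib.LocalEven.OnePointFront.Nonfull.Good
import Cfsg.Agent.Lib.Coprime.Sylow

/-!
# Curved lines: the overgroup `K · C(T)` of the point group

For a Sylow 2-subgroup `T` of the point group `K` at `a` the group `K · (stabilizer a ⊓ centralizer T)`
is normal in the stabiliser.  If `T` is elementary and no bad involution centralises it, this is again
a point group; it contains the translations of a curved line which centralise `T`.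
-/

set_option autoImplicit false
set_option linter.style.haveILetI false
set_option linter.unusedSectionVars false

namespace CfsgLib.LocalEven.OnePointFront.Nonfull.Moved

open MulAction CfsgLib.LocalEven.TIEndgame CfsgLib.Involution

universe u

variable {G : Type u} {Ω : Type u} [Group G] [MulAction G Ω] [Finite G]

/-- The overgroup of `K`. -/
def overgroup (a : Ω) (K T : Subgroup G) : Subgroup G :=
  K ⊔ (stabilizer G a ⊓ Subgroup.centralizer (T : Set G))

theorem le_overgroup (a : Ω) (K T : Subgroup G) : K ≤ overgroup a K T := le_sup_left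

theorem centralizer_le_overgroup (a : Ω) (K T : Subgroup G) :
    stabilizer G a ⊓ Subgroup.centralizer (T : Set G) ≤ overgroup a K T := le_sup_right

theorem mem_overgroup {D : Set G} {a : Ω} {K T : Subgroup G} (hK : PointGroup D a K) {g : G}
    (hg : g ∈ overgroup a K T) :
    ∃ k ∈ K, ∃ c ∈ stabilizer G a ⊓ Subgroup.centralizer (T : Set G), g = k * c := by
  have hle : stabilizer G a ⊓ Subgroup.centralizer (T : Set G) ≤ Subgroup.normalizer (K : Set G) := by
    intro c hc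
    refine Subgroup.mem_normalizer_iff.2 fun k => ⟨hK.conj c hc.1 k, fun hk => ?_⟩
    have := hK.conj c⁻¹ (inv_mem hc.1) _ hk
    rwa [show c⁻¹ * (c * k * c⁻¹) * c⁻¹⁻¹ = k by group] at this
  have := (Subgroup.coe_mul_of_right_le_normalizer_left K _ hle).le hg
  obtain ⟨k, hk, c, hc, rfl⟩ := this
  exact ⟨k, hk, c, hc, rfl⟩

/-- The overgroup is normal in the stabiliser. -/
theorem overgroup_conj {D : Set G} {a : Ω} {K T : Subgroup G} (hK : PointGroup D a K)
    (hT : IsPGroup 2 T) (hTK : T ≤ K) (hodd : Odd (T.relIndex K)) :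
    ∀ g ∈ stabilizer G a, ∀ v ∈ overgroup a K T, g * v * g⁻¹ ∈ overgroup a K T := by
  haveI : Fact (Nat.Prime 2) := ⟨Nat.prime_two⟩
  intro g hg v hv
  obtain ⟨k, hk, c, hc, rfl⟩ := mem_overgroup hK hv
  rw [show g * (k * c) * g⁻¹ = g * k * g⁻¹ * (g * c * g⁻¹) by group]
  refine mul_mem (le_overgroup a K T (hK.conj g hg k hk)) ?_
  -- Frattini: `k₀ * g` normalises `T` for some `k₀ ∈ K`
  obtain ⟨TS, hTS⟩ : ∃ S : Sylow 2 K, (S : Subgroup K) = T.subgroupOf K :=
    ⟨(hT.of_equiv (Subgroup.subgroupOfEquivOfLe hTK).symm).toSylow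
      (fun hd => Nat.not_even_iff_odd.2 hodd (even_iff_two_dvd.2 hd)), rfl⟩
  have hT'K : T.map (MulAut.conj g).toMonoidHom ≤ K := by
    rintro _ ⟨t, ht, rfl⟩
    exact hK.conj g hg t (hTK ht)
  obtain ⟨S', hS'⟩ := ((hT.map (MulAut.conj g).toMonoidHom).of_equiv
    (Subgroup.subgroupOfEquivOfLe hT'K).symm).exists_le_sylow
  obtain ⟨k₀, hk₀⟩ := MulAction.exists_smul_eq K S' TS
  have key : ∀ t ∈ T, (k₀ : G) * g * t * ((k₀ : G) * g)⁻¹ ∈ T := fun t ht => by
    have hm : g * t * g⁻¹ ∈ T.map (MulAut.conj g).toMonoidHom := ⟨t, ht, rfl⟩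
    have h1 : k₀ * (⟨_, hT'K hm⟩ : K) * k₀⁻¹ ∈ (TS : Subgroup K) := by
      rw [← hk₀, Sylow.coe_subgroup_smul]
      exact ⟨⟨_, hT'K hm⟩, hS' (Subgroup.mem_subgroupOf.2 hm), rfl⟩
    rw [hTS] at h1
    have h2 : (k₀ : G) * (g * t * g⁻¹) * (k₀ : G)⁻¹ ∈ T := h1
    rwa [show (k₀ : G) * g * t * ((k₀ : G) * g)⁻¹ = (k₀ : G) * (g * t * g⁻¹) * (k₀ : G)⁻¹ by group]
  have hn : (k₀ : G) * g ∈ Subgroup.normalizer (T : Set G) := by
    refine Subgroup.mem_normalizer_iff_map_conj_eq.2 (Subgroup.eq_of_le_of_card_ge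
      (by rintro _ ⟨t, ht, rfl⟩; exact key t ht) ?_)
    rw [Subgroup.card_map_of_injective (MulAut.conj ((k₀ : G) * g)).injective]
  have hc' : (k₀ : G) * g * c * ((k₀ : G) * g)⁻¹ ∈ overgroup a K T := by
    have hkg : (k₀ : G) * g ∈ stabilizer G a := mul_mem (hK.le k₀.2) hg
    refine centralizer_le_overgroup a K T (Subgroup.mem_inf.2 ⟨mul_mem (mul_mem hkg hc.1)
      (inv_mem hkg), Subgroup.mem_centralizer_iff.2 fun t ht => ?_⟩)
    have ht' := (Subgroup.mem_normalizer_iff.1 (inv_mem hn) t).1 ht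
    rw [inv_inv] at ht'
    calc t * ((k₀ : G) * g * c * ((k₀ : G) * g)⁻¹)
        = (k₀ : G) * g * (((k₀ : G) * g)⁻¹ * t * ((k₀ : G) * g) * c) * ((k₀ : G) * g)⁻¹ := by group
      _ = (k₀ : G) * g * (c * (((k₀ : G) * g)⁻¹ * t * ((k₀ : G) * g))) * ((k₀ : G) * g)⁻¹ := by
        rw [Subgroup.mem_centralizer_iff.1 hc.2 _ ht']
      _ = (k₀ : G) * g * c * ((k₀ : G) * g)⁻¹ * t := by group
  have := mul_mem (mul_mem (inv_mem (le_overgroup a K T k₀.2)) hc') (le_overgroup a K T k₀.2)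
  rwa [show (k₀ : G)⁻¹ * ((k₀ : G) * g * c * ((k₀ : G) * g)⁻¹) * (k₀ : G) = g * c * g⁻¹ by group]
    at this

/-- A bad involution `x` is outside the overgroup when the elements of `T` it centralises lie in
`R` and no `x * r`, `r ∈ R`, centralises `T`. -/
theorem notMem_overgroup {D : Set G} {a : Ω} {K T R : Subgroup G} (hK : PointGroup D a K)
    (hTK : T ≤ K) (hodd : Odd (T.relIndex K)) {x : G} (hx2 : x * x = 1)
    (hxT : x ∈ Subgroup.normalizer (T : Set G)) (hR : ∀ t ∈ T, Commute x t → t ∈ R)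
    (hfull : ∀ r ∈ R, ∃ t ∈ T, ¬ Commute (x * r) t) : x ∉ overgroup a K T := by
  haveI : Fact (Nat.Prime 2) := ⟨Nat.prime_two⟩
  intro hx
  obtain ⟨k, hk, c, hc, hxe⟩ := mem_overgroup hK hx
  have hcT : ∀ t ∈ T, c * t * c⁻¹ = t := fun t ht => by
    rw [(Subgroup.mem_centralizer_iff.1 hc.2 t ht).symm, mul_inv_cancel_right]
  have hcn : c ∈ Subgroup.normalizer (T : Set G) := by
    refine Subgroup.mem_normalizer_iff.2 fun t => ⟨fun ht => by rwa [hcT t ht], fun ht => ?_⟩
    have e := hcT _ ht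
    have : c * t * c⁻¹ = t := mul_left_cancel (mul_right_cancel e)
    rwa [this] at ht
  have hkn : k ∈ Subgroup.normalizer (T : Set G) := by
    rw [eq_mul_inv_of_mul_eq hxe.symm]; exact mul_mem hxT (inv_mem hcn)
  have hact : ∀ t ∈ T, x * t * x⁻¹ = k * t * k⁻¹ := fun t ht => by
    rw [hxe, show k * c * t * (k * c)⁻¹ = k * (c * t * c⁻¹) * k⁻¹ by group, hcT t ht]
  -- some odd power of `k` lies in `T`
  set N := K ⊓ Subgroup.normalizer (T : Set G) with hN
  haveI : (T.subgroupOf N).Normal := Subgroup.normal_subgroupOf_of_le_normalizer inf_le_right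
  set n := (T.subgroupOf N).index with hn
  have hn2 : Odd n := by
    have hd : n ∣ T.relIndex K :=
      ⟨_, (Subgroup.relIndex_mul_relIndex T N K (le_inf hTK Subgroup.le_normalizer) inf_le_left).symm⟩
    exact hodd.of_dvd_nat hd
  have hkT : k ^ n ∈ T := by
    have h1 := Subgroup.pow_index_mem (T.subgroupOf N) (⟨k, ⟨hk, hkn⟩⟩ : N)
    exact Subgroup.mem_subgroupOf.1 h1
  have hpow : ∀ i : ℕ, ∀ t ∈ T, x ^ i * t * (x ^ i)⁻¹ = k ^ i * t * (k ^ i)⁻¹ := by
    intro i
    induction i with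
    | zero => intro t _; simp
    | succ i ih =>
      intro t ht
      have hkit : k ^ i * t * (k ^ i)⁻¹ ∈ T :=
        (Subgroup.mem_normalizer_iff.1 (Subgroup.pow_mem _ hkn i) t).1 ht
      rw [pow_succ', pow_succ', show x * x ^ i * t * (x * x ^ i)⁻¹ = x * (x ^ i * t * (x ^ i)⁻¹) * x⁻¹ by
        group, ih t ht, hact _ hkit]
      group
  have hxn : x ^ n = x := by
    obtain ⟨j, hj⟩ := hn2
    rw [hj, pow_succ, pow_mul, pow_two, hx2, one_pow, one_mul]
  set t₀ := k ^ n with ht₀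
  have hact' : ∀ t ∈ T, x * t * x⁻¹ = t₀ * t * t₀⁻¹ := fun t ht => by
    have := hpow n t ht
    rwa [hxn] at this
  have ht₀R : t₀ ∈ R := hR t₀ hkT (mul_inv_eq_iff_eq_mul.1 (by
    rw [hact' t₀ hkT, mul_inv_cancel_right]))
  obtain ⟨t, ht, hne⟩ := hfull t₀⁻¹ (R.inv_mem ht₀R)
  refine hne (mul_inv_eq_iff_eq_mul.1 ?_)
  have ht' : t₀⁻¹ * t * t₀⁻¹⁻¹ ∈ T := mul_mem (mul_mem (inv_mem hkT) ht) (inv_mem (inv_mem hkT))
  rw [show x * t₀⁻¹ * t * (x * t₀⁻¹)⁻¹ = x * (t₀⁻¹ * t * t₀⁻¹⁻¹) * x⁻¹ by group, hact' _ ht']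
  group

/-- A 2-subgroup of the stabiliser lies in a maximal one. -/
theorem exists_isTopTwo {a : Ω} {U : Subgroup G} (hU : IsPGroup 2 U)
    (hUa : U ≤ stabilizer G a) : ∃ S : Subgroup G, IsTopTwo S a ∧ U ≤ S := by
  haveI : Fact (Nat.Prime 2) := ⟨Nat.prime_two⟩
  obtain ⟨S, hS⟩ := (hU.of_equiv (Subgroup.subgroupOfEquivOfLe hUa).symm).exists_le_sylow
  refine ⟨(S : Subgroup ↥(stabilizer G a)).map (stabilizer G a).subtype,
    ⟨S.2.map _, Subgroup.map_subtype_le _, fun P hP hPa hle => le_antisymm (fun p hp => ?_) hle⟩,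
    fun u hu => ⟨⟨u, hUa hu⟩, hS hu, rfl⟩⟩
  have h1 := S.3 (hP.of_equiv (Subgroup.subgroupOfEquivOfLe hPa).symm)
    (fun s hs => hle ⟨s, hs, rfl⟩)
  exact ⟨⟨p, hPa hp⟩, h1.le hp, rfl⟩

variable {D : Set G}

/-- The overgroup of an elementary Sylow 2-subgroup is again a point group when no bad involution at
the point centralises that Sylow 2-subgroup. -/
theorem overgroup_pointGroup [Finite Ω] [FaithfulSMul G Ω] (h : ClosedSetting D Ω) {a : Ω}
    {K T : Subgroup G} (hK : PointGroup D a K) (hT : IsPGroup 2 T) (hTK : T ≤ K)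
    (hodd : Odd (T.relIndex K)) (hsq : ∀ t ∈ T, t * t = 1)
    (hno : ∀ y : G, IsBad Ω y → y • a = a → ∃ t ∈ T, ¬ Commute y t) :
    PointGroup D a (overgroup a K T) where
  le := sup_le hK.le inf_le_left
  conj := overgroup_conj hK hT hTK hodd
  dat_le d hd := le_overgroup a K T (hK.dat_le d hd)
  invol_mem := by
    haveI : Fact (Nat.Prime 2) := ⟨Nat.prime_two⟩
    intro k hk hk2
    have hle : overgroup a K T ≤ stabilizer G a := sup_le hK.le inf_le_left
    have hka : k • a = a := mem_stabilizer_iff.1 (hle hk)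
    refine (h.mem_or_bad hk2 hka).elim (fun hd => ⟨hd, hka⟩) fun hbad => ?_
    exfalso
    -- a conjugate of `k` normalises `T`
    obtain ⟨S, hS, hkS⟩ : ∃ S : Subgroup G, IsTopTwo S a ∧ k ∈ S := by
      have hzp : IsPGroup 2 ↥(Subgroup.zpowers k) :=
        IsPGroup.of_card (n := 1) (by rw [Nat.card_zpowers, hk2, pow_one])
      obtain ⟨S, hS, hzS⟩ := exists_isTopTwo hzp (Subgroup.zpowers_le.2 (mem_stabilizer_iff.2 hka))
      exact ⟨S, hS, hzS (Subgroup.mem_zpowers k)⟩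
    have hSK : Odd ((S ⊓ K).relIndex K) := odd_relIndex_inf hK.le hK.conj hS
    let P : Sylow 2 K := ((hS.1.to_le inf_le_left).of_equiv
      (Subgroup.subgroupOfEquivOfLe (inf_le_right : S ⊓ K ≤ K)).symm).toSylow
        (fun hd => Nat.not_even_iff_odd.2 hSK (even_iff_two_dvd.2 hd))
    let Q : Sylow 2 K := (hT.of_equiv (Subgroup.subgroupOfEquivOfLe hTK).symm).toSylow
      (fun hd => Nat.not_even_iff_odd.2 hodd (even_iff_two_dvd.2 hd))
    obtain ⟨g, hg⟩ := MulAction.exists_smul_eq K P Q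
    have hmap : ∀ s, s ∈ S ⊓ K ↔ (g : G) * s * (g : G)⁻¹ ∈ T := by
      intro s
      constructor
      · intro hs
        have h1 : g * (⟨s, hs.2⟩ : K) * g⁻¹ ∈ (Q : Subgroup K) := by
          rw [← hg, Sylow.coe_subgroup_smul]
          exact ⟨⟨s, hs.2⟩, hs, rfl⟩
        exact h1
      · intro hs
        have hsK : s ∈ K := by
          have := mul_mem (mul_mem (inv_mem g.2) (hTK hs)) g.2
          rwa [show (g : G)⁻¹ * ((g : G) * s * (g : G)⁻¹) * g = s by group] at this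
        have h1 : g * (⟨s, hsK⟩ : K) * g⁻¹ ∈ (Q : Subgroup K) := hs
        rw [← hg, Sylow.coe_subgroup_smul] at h1
        obtain ⟨y, hy, he⟩ := h1
        have : y = ⟨s, hsK⟩ := mul_left_cancel (mul_right_cancel he)
        subst this
        exact hy
    set y := (g : G) * k * (g : G)⁻¹ with hy
    have hga : (g : G) • a = a := mem_stabilizer_iff.1 (hK.le g.2)
    have hybad : IsBad Ω y := isBad_conj (g : G) hbad
    have hy2 : y * y = 1 := Dihedral.mul_self hybad.1
    have hya : y • a = a := by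
      rw [hy, mul_smul, mul_smul, inv_smul_eq_iff.2 hga.symm, hka, hga]
    have hyK : y ∉ K := fun hh => by
      obtain ⟨-, p, q, hpq, hp, hq⟩ := id hybad
      exact hpq (h.fixed_unique y (hK.invol_mem y hh hybad.1).1 p q hp hq)
    have hyT : y ∈ Subgroup.normalizer (T : Set G) := by
      have key : ∀ t ∈ T, y * t * y⁻¹ ∈ T := fun t ht => by
        have hs : (g : G)⁻¹ * t * g ∈ S ⊓ K := (hmap _).2 (by
          rwa [show (g : G) * ((g : G)⁻¹ * t * g) * (g : G)⁻¹ = t by group])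
        have hs' : k * ((g : G)⁻¹ * t * g) * k⁻¹ ∈ S ⊓ K := Subgroup.mem_inf.2
          ⟨mul_mem (mul_mem hkS hs.1) (inv_mem hkS), hK.conj k (mem_stabilizer_iff.2 hka) _ hs.2⟩
        have := (hmap _).1 hs'
        rwa [show (g : G) * (k * ((g : G)⁻¹ * t * g) * k⁻¹) * (g : G)⁻¹ = y * t * y⁻¹ by
          rw [hy]; group] at this
      refine Subgroup.mem_normalizer_iff.2 fun t => ⟨key t, fun ht => ?_⟩
      have := key _ ht
      rwa [show y * (y * t * y⁻¹) * y⁻¹ = (y * y) * t * (y * y)⁻¹ by group, hy2, one_mul, inv_one,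
        mul_one] at this
    refine notMem_overgroup hK hTK hodd hy2 hyT (R := T ⊓ Subgroup.centralizer {y})
      (fun t ht hc => ⟨ht, Subgroup.mem_centralizer_singleton_iff.2 hc.eq.symm⟩) (fun r hr => ?_)
      (overgroup_conj hK hT hTK hodd _ (hK.le g.2) k hk)
    have hyr : Commute y r := (Subgroup.mem_centralizer_singleton_iff.1 hr.2).symm
    have hr2 := hsq r hr.1
    have hyr1 : y * r ≠ 1 := fun e => hyK (by
      rw [mul_eq_one_iff_eq_inv.1 e]; exact inv_mem (hTK hr.1))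
    have hyra : (y * r) • a = a := by
      rw [mul_smul, mem_stabilizer_iff.1 (hK.le (hTK hr.1)), hya]
    have hord : orderOf (y * r) = 2 := orderOf_eq_prime (by
      rw [pow_two, hyr.symm.mul_mul_mul_comm, hy2, hr2, one_mul]) hyr1
    refine hno (y * r) ((h.mem_or_bad hord hyra).resolve_left fun hd => hyK ?_) hyra
    have := mul_mem (hK.dat_le _ ⟨hd, hyra⟩) (inv_mem (hTK hr.1))
    rwa [mul_inv_cancel_right] at this

end CfsgLib.LocalEven.OnePointFront.Nonfull.Moved
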