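import Cfsg.Agent.Lib.LocalEven.OnePointFront.Nonfull.Curved.MovedBase
import Cfsg.Agent.Lib.LocalEven.OnePointFront.Nonfull.Moved.Overgroup

/-!
# Curved lines moving the centre: the layer above `Q Z`

`Z` is the group of central members, moved onto `x R` by `x`, and `Q ≤ K` is the translation group
of the line.  `layerGroup` consists of the elements of `K` centralising `Z` and `Q Z / Z` and
sending `x` into `x Q Z`; the displacement gives a homomorphism of it to `Q / R`.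
-/

set_option autoImplicit false
set_option linter.style.haveILetI false
set_option linter.unusedSectionVars false

namespace CfsgLib.LocalEven.OnePointFront.Nonfull.Moved

open MulAction CfsgLib.LocalEven.TIEndgame CfsgLib.Involution

universe u

variable {G Ω : Type u} [Group G] [MulAction G Ω] [Finite G] [Finite Ω]
  {D : Set G} {a : Ω} {x : G} {K R Q J₀ Z : Subgroup G}

/-- The element by which `g` moves `x`: `g * x * g⁻¹ = x * move x g` when `x * x = 1`. -/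
def move (x g : G) : G := x * g * x * g⁻¹

theorem conj_eq_move {x : G} (hx : x * x = 1) (g : G) : g * x * g⁻¹ = x * move x g :=
  calc g * x * g⁻¹ = (x * x) * g * x * g⁻¹ := by rw [hx, one_mul]
    _ = x * move x g := by rw [move]; group

theorem move_one {x : G} (hx : x * x = 1) : move x 1 = 1 := by simp [move, hx]

theorem move_mul {x : G} (hx : x * x = 1) (g g' : G) :
    move x (g * g') = move x g * (g * move x g' * g⁻¹) :=
  calc move x (g * g') = x * g * 1 * g' * x * g'⁻¹ * g⁻¹ := by rw [move]; group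
    _ = _ := by rw [← hx]; simp only [move]; group

/-- The displacement is inverted by `x`. -/
theorem conj_move {x : G} (hx : x * x = 1) (g : G) : x * move x g * x = (move x g)⁻¹ := by
  have hi : x⁻¹ = x := inv_eq_of_mul_eq_one_right hx
  calc x * move x g * x = (x * x) * g * x * g⁻¹ * x := by rw [move]; group
    _ = g * x⁻¹ * g⁻¹ * x⁻¹ := by rw [hx, one_mul, hi]
    _ = _ := by rw [move]; group

/-- An element inverted by `x` moves it by its inverse square. -/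
theorem move_of_inverted {x g : G} (h : x * g * x = g⁻¹) : move x g = (g * g)⁻¹ := by
  rw [move, h, mul_inv_rev]

/-- The standing data. -/
structure LayerData (D : Set G) (a : Ω) (x : G) (K R Q J₀ Z : Subgroup G) : Prop where
  line : CurvedLine D a x K R Q J₀
  le : Q ≤ K
  sq_Z : ∀ z ∈ Z, z * z = 1
  Z_K : Z ≤ K
  Z_comm : ∀ z ∈ Z, ∀ g ∈ Q, Commute z g
  Z_abel : ∀ z ∈ Z, ∀ z' ∈ Z, Commute z z'
  R_le : R ≤ Z
  conj_Z : x ∈ Subgroup.normalizer (Z : Set G)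
  centre : ∀ z ∈ Z, Commute x z → z ∈ R
  onto : ∀ r ∈ R, ∃ z ∈ Z, z * x * z⁻¹ = x * r

namespace LayerData

variable (Y : LayerData D a x K R Q J₀ Z)
include Y

theorem x_sq : x * x = 1 := Dihedral.mul_self Y.line.bad.1

theorem x_inv : x⁻¹ = x := inv_eq_of_mul_eq_one_right Y.x_sq

theorem xZ {z : G} (hz : z ∈ Z) : x * z * x ∈ Z := by
  have := (Subgroup.mem_normalizer_iff.1 Y.conj_Z z).1 hz
  rwa [Y.x_inv] at this

theorem xQ {g : G} (hg : g ∈ Q) : x * g * x = g := by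
  rw [(Y.line.comm g hg).eq, mul_assoc, Y.x_sq, mul_one]

theorem inf_Z {g : G} (hg : g ∈ Q) (hgZ : g ∈ Z) : g ∈ R := Y.centre g hgZ (Y.line.comm g hg)

omit Y in
theorem mem_of_mul_closed {P : G → Prop} (h1 : P 1) (hmul : ∀ g g', P g → P g' → P (g * g')) {g : G}
    (hg : P g) : P g⁻¹ := by
  have hpow : ∀ n : ℕ, P (g ^ n) := fun n => by
    induction n with
    | zero => simpa using h1
    | succ n ih => rw [pow_succ]; exact hmul _ _ ih hg
  obtain ⟨m, hm⟩ := Nat.exists_eq_succ_of_ne_zero (orderOf_pos g).ne'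
  have : g ^ m * g = 1 := by
    rw [← pow_succ, show m + 1 = orderOf g from hm.symm, pow_orderOf_eq_one]
  rw [← eq_inv_of_mul_eq_one_left this]
  exact hpow m

/-- The group `Q Z`. -/
def QZ : Subgroup G where
  carrier := {g | ∃ q ∈ Q, ∃ z ∈ Z, g = q * z}
  one_mem' := ⟨1, one_mem Q, 1, one_mem Z, by rw [one_mul]⟩
  mul_mem' := by
    rintro _ _ ⟨q, hq, z, hz, rfl⟩ ⟨q', hq', z', hz', rfl⟩
    exact ⟨q * q', mul_mem hq hq', z * z', mul_mem hz hz', (Y.Z_comm z hz q' hq').mul_mul_mul_comm _ _⟩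
  inv_mem' := by
    rintro _ ⟨q, hq, z, hz, rfl⟩
    exact ⟨q⁻¹, inv_mem hq, z⁻¹, inv_mem hz, by
      rw [mul_inv_rev, ((Y.Z_comm z hz q hq).inv_inv).eq]⟩

theorem mem_QZ {g : G} : g ∈ Y.QZ ↔ ∃ q ∈ Q, ∃ z ∈ Z, g = q * z := Iff.rfl

theorem Q_le : Q ≤ Y.QZ := fun q hq => ⟨q, hq, 1, one_mem Z, (mul_one q).symm⟩

theorem Z_le : Z ≤ Y.QZ := fun z hz => ⟨1, one_mem Q, z, hz, (one_mul z).symm⟩

theorem QZ_le : Y.QZ ≤ K := by
  rintro _ ⟨q, hq, z, hz, rfl⟩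
  exact mul_mem (Y.le hq) (Y.Z_K hz)

theorem QZ_comm {n : G} (hn : n ∈ Y.QZ) {z : G} (hz : z ∈ Z) : Commute n z := by
  obtain ⟨q, hq, z', hz', rfl⟩ := hn
  exact ((Y.Z_comm z hz q hq).symm).mul_left (Y.Z_abel z' hz' z hz)

theorem sq_QZ {n : G} (hn : n ∈ Y.QZ) : n * n ∈ R := by
  obtain ⟨q, hq, z, hz, rfl⟩ := hn
  rw [(Y.Z_comm z hz q hq).mul_mul_mul_comm, Y.sq_Z z hz, mul_one]
  exact Y.line.sq_mem q hq

theorem isPGroup_QZ : IsPGroup 2 Y.QZ := fun n => ⟨2, Subtype.ext (by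
  show (n : G) ^ 2 ^ 2 = 1
  rw [show (2 : ℕ) ^ 2 = 2 * 2 from rfl, pow_mul, pow_two, pow_two]
  exact Y.line.sq _ (Y.sq_QZ n.2))⟩

theorem comm_QZ {n n' : G} (hn : n ∈ Y.QZ) (hn' : n' ∈ Y.QZ) : n * n' * n⁻¹ * n'⁻¹ ∈ Z := by
  have e : n * n' * n⁻¹ * n'⁻¹ = (n * n) * (n⁻¹ * n' * (n⁻¹ * n')) * (n' * n')⁻¹ := by group
  rw [e]
  exact Y.R_le (mul_mem (mul_mem (Y.sq_QZ hn) (Y.sq_QZ (mul_mem (inv_mem hn) hn')))
    (inv_mem (Y.sq_QZ hn')))

theorem move_QZ {n : G} (hn : n ∈ Y.QZ) : move x n ∈ Z := by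
  obtain ⟨q, hq, z, hz, rfl⟩ := hn
  have e : move x (q * z) = (x * q * x) * ((x * z * x) * z⁻¹) * q⁻¹ :=
    calc move x (q * z) = x * q * 1 * z * x * z⁻¹ * q⁻¹ := by rw [move]; group
      _ = _ := by rw [← Y.x_sq]; group
  have hm := mul_mem (Y.xZ hz) (inv_mem hz)
  rw [e, Y.xQ hq, ← ((Y.Z_comm _ hm q hq)).eq, mul_inv_cancel_right]
  exact hm

theorem xQZ {n : G} (hn : n ∈ Y.QZ) : x * n * x ∈ Y.QZ := by
  obtain ⟨q, hq, z, hz, rfl⟩ := hn
  refine ⟨q, hq, x * z * x, Y.xZ hz, ?_⟩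
  calc x * (q * z) * x = (x * q) * z * x := by group
    _ = q * (x * z * x) := by rw [(Y.line.comm q hq).eq]; group

/-- The layer group. -/
def layerGroup : Subgroup G where
  carrier := {g | g ∈ K ∧ (∀ z ∈ Z, Commute g z) ∧ (∀ n ∈ Y.QZ, g * n * g⁻¹ * n⁻¹ ∈ Z) ∧
    move x g ∈ Y.QZ}
  one_mem' := ⟨one_mem K, fun z _ => Commute.one_left z, fun n _ => by simp [one_mem],
    by rw [move_one Y.x_sq]; exact one_mem _⟩
  mul_mem' := by
    rintro g g' ⟨hg, hgz, hgn, hgm⟩ ⟨hg', hgz', hgn', hgm'⟩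
    refine ⟨mul_mem hg hg', fun z hz => (hgz z hz).mul_left (hgz' z hz), fun n hn => ?_, ?_⟩
    · rw [show g * g' * n * (g * g')⁻¹ * n⁻¹ = g * (g' * n * g'⁻¹ * n⁻¹) * g⁻¹ * (g * n * g⁻¹ * n⁻¹)
        by group, (hgz _ (hgn' n hn)).eq, mul_inv_cancel_right]
      exact mul_mem (hgn' n hn) (hgn n hn)
    · rw [move_mul Y.x_sq, show g * move x g' * g⁻¹ = (g * move x g' * g⁻¹ * (move x g')⁻¹) *
        move x g' by group]
      exact mul_mem hgm (mul_mem (Y.Z_le (hgn _ hgm')) hgm')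
  inv_mem' := fun {g} hg => mem_of_mul_closed
    (P := fun g => g ∈ K ∧ (∀ z ∈ Z, Commute g z) ∧ (∀ n ∈ Y.QZ, g * n * g⁻¹ * n⁻¹ ∈ Z) ∧
      move x g ∈ Y.QZ)
    ⟨one_mem K, fun z _ => Commute.one_left z, fun n _ => by simp [one_mem],
      by rw [move_one Y.x_sq]; exact one_mem _⟩
    (fun g g' hg hg' => by
      obtain ⟨hgK, hgz, hgn, hgm⟩ := hg
      obtain ⟨hgK', hgz', hgn', hgm'⟩ := hg'
      refine ⟨mul_mem hgK hgK', fun z hz => (hgz z hz).mul_left (hgz' z hz), fun n hn => ?_, ?_⟩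
      · rw [show g * g' * n * (g * g')⁻¹ * n⁻¹ = g * (g' * n * g'⁻¹ * n⁻¹) * g⁻¹ *
          (g * n * g⁻¹ * n⁻¹) by group, (hgz _ (hgn' n hn)).eq, mul_inv_cancel_right]
        exact mul_mem (hgn' n hn) (hgn n hn)
      · rw [move_mul Y.x_sq, show g * move x g' * g⁻¹ = (g * move x g' * g⁻¹ * (move x g')⁻¹) *
          move x g' by group]
        exact mul_mem hgm (mul_mem (Y.Z_le (hgn _ hgm')) hgm')) hg

theorem mem_layer {g : G} : g ∈ Y.layerGroup ↔ g ∈ K ∧ (∀ z ∈ Z, Commute g z) ∧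
    (∀ n ∈ Y.QZ, g * n * g⁻¹ * n⁻¹ ∈ Z) ∧ move x g ∈ Y.QZ := Iff.rfl

theorem QZ_le_layer : Y.QZ ≤ Y.layerGroup := fun _ hn =>
  ⟨Y.QZ_le hn, fun _ hz => Y.QZ_comm hn hz, fun _ hn' => Y.comm_QZ hn hn', Y.Z_le (Y.move_QZ hn)⟩

theorem conj_QZ {h : G} (hh : h ∈ Y.layerGroup) {n : G} (hn : n ∈ Y.QZ) : h * n * h⁻¹ ∈ Y.QZ := by
  rw [show h * n * h⁻¹ = (h * n * h⁻¹ * n⁻¹) * n by group]
  exact mul_mem (Y.Z_le (hh.2.2.1 n hn)) hn

theorem sqQ {q q' : G} (hq : q ∈ Q) (hq' : q' ∈ Q) : (q * q')⁻¹ * (q' * q) ∈ R := by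
  have e : (q * q')⁻¹ * (q' * q) = (q' * q') ⁻¹ * (q' * q⁻¹ * (q' * q⁻¹)) * (q * q) := by group
  rw [e]
  exact mul_mem (mul_mem (inv_mem (Y.line.sq_mem q' hq'))
    (Y.line.sq_mem _ (mul_mem hq' (inv_mem hq)))) (Y.line.sq_mem q hq)

theorem normal_R : (R.subgroupOf Q).Normal := ⟨fun r hr g => by
  rw [Subgroup.mem_subgroupOf] at hr ⊢
  show (g : G) * r * (g : G)⁻¹ ∈ R
  rwa [(Y.line.central g g.2 r hr).eq, mul_inv_cancel_right]⟩

/-- The class of the displacement: an element of `Q`, unique modulo `R`. -/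
noncomputable def rep (h : Y.layerGroup) : Q :=
  ⟨(Y.mem_QZ.1 h.2.2.2.2).choose, (Y.mem_QZ.1 h.2.2.2.2).choose_spec.1⟩

theorem rep_spec (h : Y.layerGroup) : ∃ z ∈ Z, move x h = (Y.rep h : G) * z :=
  (Y.mem_QZ.1 h.2.2.2.2).choose_spec.2

theorem rep_unique (h : Y.layerGroup) {q : G} (hq : q ∈ Q) {z : G} (hz : z ∈ Z)
    (e : move x h = q * z) : q⁻¹ * Y.rep h ∈ R := by
  obtain ⟨z', hz', e'⟩ := Y.rep_spec h
  refine Y.inf_Z (mul_mem (inv_mem hq) (Y.rep h).2) ?_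
  have : q⁻¹ * (Y.rep h : G) = z * z'⁻¹ :=
    calc q⁻¹ * (Y.rep h : G) = q⁻¹ * ((Y.rep h : G) * z') * z'⁻¹ := by group
      _ = z * z'⁻¹ := by rw [← e', e, inv_mul_cancel_left]
  rw [this]
  exact mul_mem hz (inv_mem hz')

/-- The displacement of a product. -/
theorem rep_mul (g g' : Y.layerGroup) :
    ((Y.rep g : G) * Y.rep g')⁻¹ * Y.rep (g * g') ∈ R := by
  obtain ⟨z, hz, e⟩ := Y.rep_spec g
  obtain ⟨z', hz', e'⟩ := Y.rep_spec g'
  have hc : (g : G) * (Y.rep g' : G) * (g : G)⁻¹ * (Y.rep g' : G)⁻¹ ∈ Z :=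
    g.2.2.2.1 _ (Y.Q_le (Y.rep g').2)
  set c := (g : G) * (Y.rep g' : G) * (g : G)⁻¹ * (Y.rep g' : G)⁻¹ with hc'
  refine Y.rep_unique _ (mul_mem (Y.rep g).2 (Y.rep g').2) (z := z * c * z')
    (mul_mem (mul_mem hz hc) hz') ?_
  have h1 : (g : G) * z' * (g : G)⁻¹ = z' := by rw [(g.2.2.1 z' hz').eq, mul_inv_cancel_right]
  calc move x ((g * g' : Y.layerGroup) : G)
      = move x g * ((g : G) * move x g' * (g : G)⁻¹) := move_mul Y.x_sq _ _
    _ = (Y.rep g : G) * z * (((g : G) * (Y.rep g' : G) * (g : G)⁻¹) * ((g : G) * z' * (g : G)⁻¹)) := by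
        rw [e, e']; group
    _ = (Y.rep g : G) * (z * c) * (Y.rep g' : G) * z' := by rw [h1, hc']; group
    _ = (Y.rep g : G) * (Y.rep g' : G) * (z * c * z') := by
        rw [mul_assoc (Y.rep g : G), ((Y.Z_comm _ (mul_mem hz hc) _ (Y.rep g').2)).eq]; group

theorem rep_mul_comm (g g' : Y.layerGroup) : (Y.rep (g' * g) : G)⁻¹ * Y.rep (g * g') ∈ R := by
  rw [show (Y.rep (g' * g) : G)⁻¹ * Y.rep (g * g') =
      (((Y.rep g' : G) * Y.rep g)⁻¹ * Y.rep (g' * g))⁻¹ *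
        (((Y.rep g : G) * Y.rep g')⁻¹ * ((Y.rep g' : G) * Y.rep g))⁻¹ *
        (((Y.rep g : G) * Y.rep g')⁻¹ * Y.rep (g * g')) by group]
  exact mul_mem (mul_mem (inv_mem (Y.rep_mul g' g)) (inv_mem (Y.sqQ (Y.rep g).2 (Y.rep g').2)))
    (Y.rep_mul g g')

/-- The homomorphism to `Q / R`. -/
noncomputable def cls [(R.subgroupOf Q).Normal] : Y.layerGroup →* ↥Q ⧸ R.subgroupOf Q :=
  MonoidHom.mk' (fun h => (Y.rep h : ↥Q ⧸ R.subgroupOf Q)) fun g g' => by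
    rw [← QuotientGroup.mk_mul, eq_comm, QuotientGroup.eq, Subgroup.mem_subgroupOf]
    exact Y.rep_mul g g'

theorem cls_eq [(R.subgroupOf Q).Normal] (h : Y.layerGroup) {q : G} (hq : q ∈ Q) {z : G}
    (hz : z ∈ Z) (e : move x h = q * z) : Y.cls h = ((⟨q, hq⟩ : Q) : ↥Q ⧸ R.subgroupOf Q) := by
  refine Eq.symm (QuotientGroup.eq.2 ?_)
  rw [Subgroup.mem_subgroupOf]
  exact Y.rep_unique h hq hz e

theorem cls_eq_one [(R.subgroupOf Q).Normal] (h : Y.layerGroup) :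
    Y.cls h = 1 ↔ move x h ∈ Z := by
  obtain ⟨z, hz, e⟩ := Y.rep_spec h
  constructor
  · intro h1
    have h2 : (Y.rep h : G) ∈ R := (QuotientGroup.eq_one_iff (Y.rep h)).1 h1
    rw [e]
    exact mul_mem (Y.R_le h2) hz
  · intro h1
    rw [Y.cls_eq h (one_mem Q) h1 (one_mul _).symm]
    exact (QuotientGroup.eq_one_iff (⟨1, one_mem Q⟩ : Q)).2 (one_mem _)

theorem cls_comm [(R.subgroupOf Q).Normal] (g g' : Y.layerGroup) : Y.cls g * Y.cls g' = Y.cls g' * Y.cls g := by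
  rw [← map_mul, ← map_mul]
  refine Eq.symm (QuotientGroup.eq.2 ?_)
  rw [Subgroup.mem_subgroupOf]
  exact Y.rep_mul_comm g g'

theorem conj_layer {g : G} (hga : g • a = a) (hgx : Commute x g)
    (hgQ : g ∈ Subgroup.normalizer (Q : Set G)) (hgZ : g ∈ Subgroup.normalizer (Z : Set G))
    {l : G} (hl : l ∈ Y.layerGroup) : g * l * g⁻¹ ∈ Y.layerGroup := by
  have hK : ∀ k ∈ K, g * k * g⁻¹ ∈ K := fun k hk =>
    Y.line.point.conj g (mem_stabilizer_iff.2 hga) k hk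
  have hN : ∀ n ∈ Y.QZ, g * n * g⁻¹ ∈ Y.QZ := by
    rintro _ ⟨q, hq, z, hz, rfl⟩
    exact ⟨g * q * g⁻¹, (Subgroup.mem_normalizer_iff.1 hgQ q).1 hq, g * z * g⁻¹,
      (Subgroup.mem_normalizer_iff.1 hgZ z).1 hz, by group⟩
  have hN' : ∀ n ∈ Y.QZ, g⁻¹ * n * g ∈ Y.QZ := by
    rintro _ ⟨q, hq, z, hz, rfl⟩
    refine ⟨g⁻¹ * q * g, ?_, g⁻¹ * z * g, ?_, by group⟩
    · have := (Subgroup.mem_normalizer_iff.1 (inv_mem hgQ) q).1 hq
      rwa [inv_inv] at this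
    · have := (Subgroup.mem_normalizer_iff.1 (inv_mem hgZ) z).1 hz
      rwa [inv_inv] at this
  refine ⟨hK l hl.1, fun z hz => ?_, fun n hn => ?_, ?_⟩
  · have hz' : g⁻¹ * z * g ∈ Z := by
      have := (Subgroup.mem_normalizer_iff.1 (inv_mem hgZ) z).1 hz
      rwa [inv_inv] at this
    have := (hl.2.1 _ hz').map (MulAut.conj g).toMonoidHom
    simpa [mul_assoc] using this
  · rw [show g * l * g⁻¹ * n * (g * l * g⁻¹)⁻¹ * n⁻¹ =
      g * (l * (g⁻¹ * n * g) * l⁻¹ * (g⁻¹ * n * g)⁻¹) * g⁻¹ by group]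
    exact (Subgroup.mem_normalizer_iff.1 hgZ _).1 (hl.2.2.1 _ (hN' n hn))
  · have e : move x (g * l * g⁻¹) = g * move x l * g⁻¹ := by
      have h1 : g⁻¹ * x * g = x := by rw [mul_assoc, hgx.eq, inv_mul_cancel_left]
      calc move x (g * l * g⁻¹) = g * ((g⁻¹ * x * g) * l * (g⁻¹ * x * g) * l⁻¹) * g⁻¹ := by
            rw [move]; group
        _ = _ := by rw [h1, move]
    rw [e]
    exact hN _ hl.2.2.2

theorem x_layer {l : G} (hl : l ∈ Y.layerGroup) : x * l * x ∈ Y.layerGroup := by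
  have hxQ : x ∈ Subgroup.normalizer (Q : Set G) := by
    refine Subgroup.mem_normalizer_iff.2 fun q => ⟨fun hq => ?_, fun hq => ?_⟩
    · rwa [Y.x_inv, Y.xQ hq]
    · rw [Y.x_inv] at hq
      have h1 := Y.xQ hq
      rw [show x * (x * q * x) * x = (x * x) * q * (x * x) by group, Y.x_sq, one_mul, mul_one] at h1
      rw [h1]
      exact hq
  have := Y.conj_layer Y.line.fix (Commute.refl x) hxQ Y.conj_Z hl
  rwa [Y.x_inv] at this

end LayerData

end CfsgLib.LocalEven.OnePointFront.Nonfull.Moved
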