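import Cfsg.Agent.Lib.LocalEven.OnePointFront.Nonfull.Moved.LayerTop

/-!
# Curved lines moving the centre: central elements of `T / Z` outside `Q Z`

In a maximal 2-subgroup containing `Q Z` the elements of `T` fixed by `x` modulo `Z` lie in `Q Z`,
and, by the transitivity of the normaliser of `T` on `Z`, some element of `T` central modulo `Z`
with square in `Z` is outside `Q Z`.
-/

set_option autoImplicit false
set_option linter.style.haveILetI false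
set_option linter.unusedSectionVars false

namespace CfsgLib.LocalEven.OnePointFront.Nonfull.Moved

open MulAction CfsgLib.LocalEven.TIEndgame CfsgLib.Involution

universe u

variable {G Ω : Type u} [Group G] [MulAction G Ω] [Finite G] [Finite Ω]
  {D : Set G} {a : Ω} {x : G} {K R Q J₀ Z S : Subgroup G}

namespace LayerData

variable (Y : LayerData D a x K R Q J₀ Z) (h : ClosedSetting D Ω) (hS : IsTopTwo S a) (hxS : x ∈ S)
  (hQS : Q ≤ S) (hZ : omCentre (S ⊓ K) = Z)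
include Y h hS hxS hQS hZ

theorem QZ_le_top : Y.QZ ≤ S ⊓ K := by
  rintro _ ⟨q, hq, z, hz, rfl⟩
  exact mul_mem (Subgroup.mem_inf.2 ⟨hQS hq, Y.le hq⟩) (omCentre_le _ (hZ.ge hz))

theorem central_top {t : G} (ht : t ∈ S ⊓ K) {z : G} (hz : z ∈ Z) : Commute t z :=
  ((hZ.ge hz).2.2 t ht).symm

theorem x_top {t : G} (ht : t ∈ S ⊓ K) : x * t * x ∈ S ⊓ K := by
  refine ⟨mul_mem (mul_mem hxS ht.1) hxS, ?_⟩
  have := Y.line.point.conj x (mem_stabilizer_iff.2 Y.line.fix) t ht.2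
  rwa [Y.x_inv] at this

/-- The elements of `T` commuting with `x` form `Q`. -/
theorem mem_Q {t : G} (ht : t ∈ S ⊓ K) (hc : Commute x t) : t ∈ Q := by
  obtain ⟨b, hxb, hba⟩ : ∃ b : Ω, x • b = b ∧ b ≠ a := by
    obtain ⟨-, p, q, hpq, hp, hq⟩ := id Y.line.bad
    rcases eq_or_ne p a with e | e
    · exact ⟨q, hq, fun hqa => hpq (e.trans hqa.symm)⟩
    · exact ⟨p, hp, e⟩
  have hta : t • a = a := mem_stabilizer_iff.1 (hS.2.1 ht.1)
  obtain ⟨q, hq, hqb⟩ := Y.line.trans b (t • b) hxb (by rw [smul_smul, hc.eq, mul_smul, hxb]) hba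
    (fun e => hba (smul_left_cancel t (e.trans hta.symm)))
  set k := q⁻¹ * t
  have hk : k ∈ S ⊓ K := mul_mem (inv_mem (Subgroup.mem_inf.2 ⟨hQS hq, Y.le hq⟩)) ht
  have hk1 : k = 1 := by
    obtain ⟨n, hn⟩ := (hS.1.to_le (inf_le_left : S ⊓ K ≤ S)) ⟨k, hk⟩
    have hn' : k ^ 2 ^ n = 1 := congrArg Subtype.val hn
    by_contra hne
    -- the involution of `⟨k⟩` fixes two points
    obtain ⟨m, hm, hm1⟩ : ∃ m, (k ^ 2 ^ m) ^ 2 = 1 ∧ k ^ 2 ^ m ≠ 1 := by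
      classical
      have hex : ∃ m, k ^ 2 ^ m = 1 := ⟨n, hn'⟩
      obtain ⟨m, hm⟩ := Nat.exists_eq_succ_of_ne_zero (n := Nat.find hex) fun e => hne (by
        have := Nat.find_spec hex
        rwa [e, pow_zero, pow_one] at this)
      refine ⟨m, ?_, Nat.find_min hex (by omega)⟩
      have := Nat.find_spec hex
      rw [hm, pow_succ, pow_mul] at this
      exact this
    have hd := Y.line.point.invol_mem _ (pow_mem hk.2 _) (orderOf_eq_prime hm hm1)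
    have hkb : k ∈ stabilizer G b := mem_stabilizer_iff.2 (by rw [mul_smul, ← hqb, inv_smul_smul])
    exact hba (h.fixed_unique _ hd.1 b a (mem_stabilizer_iff.1 (pow_mem hkb _)) hd.2)
  rwa [← inv_mul_eq_one.1 hk1]

/-- The elements of `T` which `x` fixes modulo `Z` lie in `Q Z`. -/
theorem fixed_top {t : G} (ht : t ∈ S ⊓ K) (hm : move x t ∈ Z) : t ∈ Y.QZ := by
  have hc : Commute x (move x t) := by
    have h1 := conj_move Y.x_sq t
    rw [inv_eq_of_mul_eq_one_right (Y.sq_Z _ hm)] at h1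
    exact mul_inv_eq_iff_eq_mul.1 (by rw [Y.x_inv]; exact h1)
  obtain ⟨z, hz, hzx⟩ := Y.onto _ (Y.centre _ hm hc)
  have hzt : z⁻¹ * t ∈ S ⊓ K := mul_mem (inv_mem (omCentre_le _ (hZ.ge hz))) ht
  have hcomm : Commute x (z⁻¹ * t) := by
    have h1 : t * x * t⁻¹ = z * x * z⁻¹ := by rw [conj_eq_move Y.x_sq, hzx]
    refine (mul_inv_eq_iff_eq_mul.1 ?_).symm
    calc z⁻¹ * t * x * (z⁻¹ * t)⁻¹ = z⁻¹ * (t * x * t⁻¹) * z := by group
      _ = x := by rw [h1]; group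
  exact ⟨z⁻¹ * t, Y.mem_Q h hS hxS hQS hZ hzt hcomm, z, hz, by
    rw [(Y.Z_comm z hz _ (Y.mem_Q h hS hxS hQS hZ hzt hcomm)).symm.eq, mul_inv_cancel_left]⟩

/-- Some element of `T` is central modulo `Z`, squares into `Z` and is outside `Q Z`. -/
theorem exists_centre (hmove : ∃ z ∈ Z, ¬ Commute x z) :
    ∃ u ∈ S ⊓ K, u ∉ Y.QZ ∧ u * u ∈ Z ∧ ∀ s ∈ S ⊓ K, u * s * u⁻¹ * s⁻¹ ∈ Z := by
  haveI : Fact (Nat.Prime 2) := ⟨Nat.prime_two⟩
  set T := S ⊓ K with hT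
  have hT2 : IsPGroup 2 T := hS.1.to_le inf_le_left
  set Z' := Z.subgroupOf T with hZ'
  haveI : Z'.Normal := ⟨fun z hz s => by
    rw [hZ', Subgroup.mem_subgroupOf] at hz ⊢
    show (s : G) * z * (s : G)⁻¹ ∈ Z
    rwa [(Y.central_top h hS hxS hQS hZ s.2 hz).eq, mul_inv_cancel_right]⟩
  obtain ⟨q, hq, hqR⟩ : ∃ q ∈ Q, q ∉ R := by
    by_contra hall
    push Not at hall
    exact Y.line.ne (le_antisymm hall Y.line.le)
  have hqT : q ∈ T := ⟨hQS hq, Y.le hq⟩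
  haveI hnt : Nontrivial (↥T ⧸ Z') := ⟨⟨((⟨q, hqT⟩ : T) : ↥T ⧸ Z'), 1, fun e => hqR
    (Y.inf_Z hq ((QuotientGroup.eq_one_iff (N := Z') _).1 e))⟩⟩
  have hQ2 : IsPGroup 2 (↥T ⧸ Z') := hT2.to_quotient _
  haveI := hQ2.center_nontrivial
  obtain ⟨k, hk0, hk⟩ := (hQ2.to_subgroup (Subgroup.center (↥T ⧸ Z'))).nontrivial_iff_card.1
    inferInstance
  obtain ⟨c, hc⟩ := exists_prime_orderOf_dvd_card' (G := Subgroup.center (↥T ⧸ Z')) 2
    (by rw [hk]; exact dvd_pow_self _ (Nat.pos_iff_ne_zero.1 hk0))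
  obtain ⟨t, ht⟩ := QuotientGroup.mk_surjective (c : ↥T ⧸ Z')
  have hc2 : (c : ↥T ⧸ Z') * c = 1 := by
    have := congrArg Subtype.val (pow_orderOf_eq_one c)
    rwa [hc, pow_two] at this
  have ht2 : (t : G) * t ∈ Z := by
    rw [← ht, ← QuotientGroup.mk_mul, QuotientGroup.eq_one_iff] at hc2
    exact hc2
  have htc : ∀ s ∈ T, (t : G) * s * (t : G)⁻¹ * s⁻¹ ∈ Z := fun s hs => by
    have h1 := Subgroup.mem_center_iff.1 c.2 ((⟨s, hs⟩ : T) : ↥T ⧸ Z')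
    have h2 : ((t * ⟨s, hs⟩ * t⁻¹ * (⟨s, hs⟩ : T)⁻¹ : T) : ↥T ⧸ Z') = 1 := by
      simp only [QuotientGroup.mk_mul, QuotientGroup.mk_inv, ht]
      rw [← h1]
      group
    exact (QuotientGroup.eq_one_iff (N := Z') _).1 h2
  by_cases htN : (t : G) ∈ Y.QZ
  swap
  · exact ⟨t, t.2, htN, ht2, htc⟩
  obtain ⟨q', hq', z', hz', e⟩ := Y.mem_QZ.1 htN
  have hr1 : (t : G) * t ≠ 1 := by
    intro e1
    rw [e, (Y.Z_comm z' hz' q' hq').mul_mul_mul_comm, Y.sq_Z z' hz', mul_one] at e1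
    have htZ : (t : G) ∈ Z := by rw [e]; exact mul_mem (Y.R_le (Y.line.involution q' hq' e1)) hz'
    have hc1 : (c : ↥T ⧸ Z') = 1 := by rw [← ht]; exact (QuotientGroup.eq_one_iff (N := Z') _).2 htZ
    rw [show c = 1 from Subtype.ext hc1, orderOf_one] at hc
    omega
  obtain ⟨z₀, hz₀, hne⟩ := hmove
  have hz₀R : z₀ ∉ R := fun hh => hne (Y.line.comm z₀ (Y.line.le hh))
  obtain ⟨b, hba⟩ : ∃ b : Ω, b ≠ a := by
    obtain ⟨-, p, q, hpq, hp, hq⟩ := id Y.line.bad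
    rcases eq_or_ne p a with e' | e'
    · exact ⟨q, fun hqa => hpq (e'.trans hqa.symm)⟩
    · exact ⟨p, e'⟩
  obtain ⟨n, hn, hnt⟩ := Y.line.point.exists_conj_omCentre h hT2 inf_le_right
    (odd_relIndex_inf Y.line.point.le Y.line.point.conj hS) (Ne.symm hba)
    (x := (t : G) * t) (y := z₀) (hZ.ge ht2) (hZ.ge hz₀) hr1
    (fun e' => hz₀R (e' ▸ one_mem R))
  have hnZ : n ∈ Subgroup.normalizer (Z : Set G) := hZ ▸ normalizer_le_omCentre T hn.2
  refine ⟨n * t * n⁻¹, (Subgroup.mem_normalizer_iff.1 hn.2 _).1 t.2, fun hN => hz₀R ?_, ?_,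
    fun s hs => ?_⟩
  · rw [← hnt, show n * ((t : G) * t) * n⁻¹ = n * t * n⁻¹ * (n * t * n⁻¹) by group]
    exact Y.sq_QZ hN
  · rw [show n * t * n⁻¹ * (n * t * n⁻¹) = n * ((t : G) * t) * n⁻¹ by group]
    exact (Subgroup.mem_normalizer_iff.1 hnZ _).1 ht2
  · have hs' : n⁻¹ * s * n ∈ T := by
      have := (Subgroup.mem_normalizer_iff.1 (inv_mem hn.2) s).1 hs
      rwa [inv_inv] at this
    rw [show n * t * n⁻¹ * s * (n * t * n⁻¹)⁻¹ * s⁻¹ =
      n * ((t : G) * (n⁻¹ * s * n) * (t : G)⁻¹ * (n⁻¹ * s * n)⁻¹) * n⁻¹ by group]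
    exact (Subgroup.mem_normalizer_iff.1 hnZ _).1 (htc _ hs')

/-- Such an element lies in the layer group and moves `x` outside `Z`. -/
theorem centre_mem {u : G} (hu : u ∈ S ⊓ K) (huN : u ∉ Y.QZ) (hu2 : u * u ∈ Z)
    (huc : ∀ s ∈ S ⊓ K, u * s * u⁻¹ * s⁻¹ ∈ Z) : u ∈ Y.layerGroup ∧ move x u ∉ Z := by
  have hNT := Y.QZ_le_top h hS hxS hQS hZ
  refine ⟨⟨hu.2, fun z hz => Y.central_top h hS hxS hQS hZ hu hz, fun n hn => huc n (hNT hn), ?_⟩,
    fun hm => huN (Y.fixed_top h hS hxS hQS hZ hu hm)⟩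
  set v := x * u * x with hv
  have hvT : v ∈ S ⊓ K := Y.x_top h hS hxS hQS hZ hu
  have hm : move x u = v * u⁻¹ := rfl
  have hdT : move x u ∈ S ⊓ K := hm ▸ mul_mem hvT (inv_mem hu)
  have hc := huc (v⁻¹) (inv_mem hvT)
  set c := u * v⁻¹ * u⁻¹ * v⁻¹⁻¹ with hc'
  have hsq : move x u * move x u ∈ Z := by
    have hv2 : v * v ∈ Z := by
      rw [hv, show x * u * x * (x * u * x) = x * u * (x * x) * u * x by group, Y.x_sq, mul_one,
        mul_assoc x u u]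
      exact Y.xZ hu2
    have hcu : Commute u c := Y.central_top h hS hxS hQS hZ hu hc
    have e : move x u * move x u = (v * v) * (u⁻¹ * c * u) * (u * u)⁻¹ := by rw [hm, hc']; group
    rw [e, mul_assoc u⁻¹ c u, ← hcu.eq, inv_mul_cancel_left]
    exact mul_mem (mul_mem hv2 hc) (inv_mem hu2)
  refine Y.fixed_top h hS hxS hQS hZ hdT ?_
  rw [move_of_inverted (conj_move Y.x_sq u)]
  exact inv_mem hsq

end LayerData

end CfsgLib.LocalEven.OnePointFront.Nonfull.Moved
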