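import Cfsg.Agent.Lib.LocalEven.OnePointFront.Nonfull.Moved.LayerBase
import Cfsg.Agent.Lib.LocalEven.OnePointFront.Nonfull.Curved.Moved

/-!
# Curved lines moving the centre: maximal 2-subgroups over a given one
-/

set_option autoImplicit false
set_option linter.style.haveILetI false
set_option linter.unusedSectionVars false

namespace CfsgLib.LocalEven.OnePointFront.Nonfull.Moved

open MulAction CfsgLib.LocalEven.TIEndgame CfsgLib.Involution

universe u

variable {G Ω : Type u} [Group G] [MulAction G Ω] [Finite G] [Finite Ω]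
  {D : Set G} {a : Ω} {x : G} {K R Q J₀ S₀ : Subgroup G}

/-- A subgroup closed under conjugation by a group is normalised by it. -/
theorem le_normalizer_of_conj {J V : Subgroup G} (h : ∀ j ∈ J, ∀ v ∈ V, j * v * j⁻¹ ∈ V) :
    J ≤ Subgroup.normalizer (V : Set G) := by
  intro j hj
  refine Subgroup.mem_normalizer_iff.2 fun v => ⟨h j hj v, fun hv => ?_⟩
  have := h j⁻¹ (inv_mem hj) _ hv
  rwa [show j⁻¹ * (j * v * j⁻¹) * j⁻¹⁻¹ = v by group] at this

/-- The layer data of a curved line moving the centre. -/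
theorem layerData (M : MovedTop D a x K R Q J₀ S₀) (h : ClosedSetting D Ω) (hQK : Q ≤ K)
    (hQS : Q ≤ S₀) : LayerData D a x K R Q J₀ (omCentre (S₀ ⊓ K)) where
  line := M.line
  le := hQK
  sq_Z _ hz := hz.2.1
  Z_K _ hz := hz.1.2
  Z_comm _ hz g hg := hz.2.2 g ⟨hQS hg, hQK hg⟩
  Z_abel _ hz _ hz' := hz.2.2 _ hz'.1
  R_le := M.central
  conj_Z := normalizer_le_omCentre _ (M.le_normalizer_T M.mem)
  centre _ hz hc := M.mem_R h hz hc
  onto _ hr := M.exists_shift h hr

/-- A 2-group normalising `Z` lies in a maximal one with the same central members. -/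
theorem exists_top (M : MovedTop D a x K R Q J₀ S₀) {V : Subgroup G} (hV : IsPGroup 2 V)
    (hVZ : V ≤ stabilizer G a ⊓ Subgroup.normalizer (omCentre (S₀ ⊓ K) : Set G)) :
    ∃ S : Subgroup G, IsTopTwo S a ∧ V ≤ S ∧ omCentre (S ⊓ K) = omCentre (S₀ ⊓ K) := by
  haveI : Fact (Nat.Prime 2) := ⟨Nat.prime_two⟩
  set Z := omCentre (S₀ ⊓ K) with hZ
  set MZ := stabilizer G a ⊓ Subgroup.normalizer (Z : Set G) with hMZ
  have hS₀ : S₀ ≤ MZ := le_inf M.top.2.1 fun s hs =>
    normalizer_le_omCentre _ (M.le_normalizer_T hs)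
  let P₀ : Sylow 2 ↥MZ :=
    { toSubgroup := S₀.subgroupOf MZ
      isPGroup' := M.top.1.comap_subtype
      is_maximal' := fun {P} hP hle => by
        refine le_antisymm (fun v hv => ?_) hle
        have := M.top.2.2 (P.map MZ.subtype) (hP.map _)
          ((Subgroup.map_subtype_le P).trans inf_le_left) (fun y hy => ⟨⟨y, hS₀ hy⟩, hle hy, rfl⟩)
        exact this.le ⟨v, hv, rfl⟩ }
  obtain ⟨g, hg⟩ := Involution.Basic.exists_conj_le P₀
    (hV.of_equiv (Subgroup.subgroupOfEquivOfLe hVZ).symm)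
  obtain ⟨hga, hgZ⟩ := g.2
  set c := (MulAut.conj (g : G)⁻¹).toMonoidHom with hc
  have hmem : ∀ {P : Subgroup G} {s : G}, s ∈ P.map c ↔ (g : G) * s * (g : G)⁻¹ ∈ P := by
    intro P s
    constructor
    · rintro ⟨t, ht, rfl⟩
      show (g : G) * ((g : G)⁻¹ * t * (g : G)⁻¹⁻¹) * (g : G)⁻¹ ∈ P
      rwa [show (g : G) * ((g : G)⁻¹ * t * (g : G)⁻¹⁻¹) * (g : G)⁻¹ = t by group]
    · intro hs
      refine ⟨_, hs, ?_⟩
      show (g : G)⁻¹ * ((g : G) * s * (g : G)⁻¹) * (g : G)⁻¹⁻¹ = s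
      group
  have hK : ∀ s, (g : G) * s * (g : G)⁻¹ ∈ K ↔ s ∈ K := fun s => by
    refine ⟨fun hs => ?_, M.line.point.conj _ hga s⟩
    have := M.line.point.conj _ ((stabilizer G a).inv_mem hga) _ hs
    rwa [show (g : G)⁻¹ * ((g : G) * s * (g : G)⁻¹) * (g : G)⁻¹⁻¹ = s by group] at this
  refine ⟨S₀.map c, ⟨M.top.1.map _, ?_, fun P hP hPa hle => le_antisymm (fun p hp => ?_) hle⟩,
    fun v hv => hmem.2 (hg ⟨v, hVZ hv⟩ hv), ?_⟩
  · intro s hs
    have h1 := M.top.2.1 (hmem.1 hs)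
    have := mul_mem (mul_mem ((stabilizer G a).inv_mem hga) h1) hga
    rwa [show (g : G)⁻¹ * ((g : G) * s * (g : G)⁻¹) * g = s by group] at this
  · have h2 := M.top.2.2 (P.map (MulAut.conj (g : G)).toMonoidHom) (hP.map _) ?_ ?_
    · exact hmem.2 (h2.le ⟨p, hp, rfl⟩)
    · rintro _ ⟨q, hq, rfl⟩
      exact mul_mem (mul_mem hga (hPa hq)) ((stabilizer G a).inv_mem hga)
    · intro s hs
      refine ⟨(g : G)⁻¹ * s * g, hle (hmem.2
        (by rwa [show (g : G) * ((g : G)⁻¹ * s * g) * (g : G)⁻¹ = s by group])), ?_⟩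
      show (g : G) * ((g : G)⁻¹ * s * g) * (g : G)⁻¹ = s
      group
  · ext z
    have hT : ∀ {s}, s ∈ S₀.map c ⊓ K ↔ (g : G) * s * (g : G)⁻¹ ∈ S₀ ⊓ K := fun {s} => by
      rw [Subgroup.mem_inf, Subgroup.mem_inf, hmem, hK]
    have hiff : z ∈ omCentre (S₀.map c ⊓ K) ↔ (g : G) * z * (g : G)⁻¹ ∈ Z := by
      rw [hZ, mem_omCentre, mem_omCentre, hT]
      refine and_congr_right fun _ => and_congr ?_ ⟨fun hz s hs => ?_, fun hz s hs => ?_⟩
      · constructor
        · intro e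
          rw [show (g : G) * z * (g : G)⁻¹ * ((g : G) * z * (g : G)⁻¹) = g * (z * z) * (g : G)⁻¹ by
            group, e]
          group
        · intro e
          rw [show (g : G) * z * (g : G)⁻¹ * ((g : G) * z * (g : G)⁻¹) = g * (z * z) * (g : G)⁻¹ by
            group] at e
          exact conj_eq_one_iff.1 e
      · have := (hz ((g : G)⁻¹ * s * g) (hT.2 (by
          rwa [show (g : G) * ((g : G)⁻¹ * s * g) * (g : G)⁻¹ = s by group]))).map
            (MulAut.conj (g : G)).toMonoidHom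
        simpa [mul_assoc] using this
      · have := (hz _ (hT.1 hs)).map (MulAut.conj (g : G)⁻¹).toMonoidHom
        simpa [mul_assoc] using this
    rw [hiff]
    exact ((Subgroup.mem_normalizer_iff.1 hgZ) z).symm

end CfsgLib.LocalEven.OnePointFront.Nonfull.Moved
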