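import Cfsg.Agent.Lib.LocalEven.OnePointFront.Nonfull.Moved.ShearWeights
import Cfsg.Agent.Lib.LocalEven.OnePointFront.Nonfull.Curved.MovedCase
import Cfsg.Agent.Lib.LocalEven.OnePointFront.Nonfull.Curved.Base

/-!
# The shears of a Suzuki line moving the central members

`x` moves `Z = omCentre (S ⊓ K)` and `Q` lies in `S` but not in the maximal point group `K`.  Then
`Z = S ⊓ K`, the centraliser of `x` in `S` is `Q⟨x⟩`, and for each `g` in `Q` outside `R` the element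
`x g` centralises an element of `Z` outside `R`.
-/

set_option autoImplicit false
set_option linter.style.haveILetI false
set_option linter.unusedSectionVars false

namespace CfsgLib.LocalEven.OnePointFront.Nonfull.Moved

open MulAction CfsgLib.LocalEven.TIEndgame CfsgLib.Involution

universe u

variable {G Ω : Type u} [Group G] [MulAction G Ω] [Finite G] [Finite Ω] [FaithfulSMul G Ω]
  {D : Set G} {a : Ω} {x : G} {K R Q J S : Subgroup G}

/-- The setting: a moved top of a Suzuki line with `Q` outside the maximal point group. -/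
structure ShearTop (D : Set G) (a : Ω) (x : G) (K R Q J S : Subgroup G) : Prop where
  top : MovedTop D a x K R Q J S
  suzuki : SuzukiLine D a x K R Q J
  setting : ClosedSetting D Ω
  rank : MaxRank D Ω R
  max : MaxPointGroup D a K
  le_S : Q ≤ S
  notLe : ¬ Q ≤ K
  lift : TorusLift a x R Q J (omCentre (S ⊓ K))

namespace ShearTop

variable (P : ShearTop D a x K R Q J S)
include P

theorem inf_K {g : G} (hg : g ∈ Q) (hgK : g ∈ K) : g ∈ R :=
  ((P.suzuki.toCurvedLine.le_or_inf_eq).resolve_left P.notLe).le ⟨hgK, hg⟩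

/-- `x` centralises only `R` in `T`. -/
theorem mem_R_T {t : G} (ht : t ∈ S ⊓ K) (hxt : Commute x t) : t ∈ R := by
  have he := (P.suzuki.toCurvedLine.le_or_inf_eq).resolve_left P.notLe
  have h1 := P.suzuki.toCurvedLine.mem_inf P.setting (V := S ⊓ K) P.top.two_T inf_le_right
    (he.le.trans (P.top.central.trans (omCentre_le _))) ht hxt
  exact he.le h1

theorem eq_T : omCentre (S ⊓ K) = S ⊓ K :=
  P.top.eq_omCentre P.setting fun _ ht hxt => P.mem_R_T ht hxt

theorem T_sq {t : G} (ht : t ∈ S ⊓ K) : t * t = 1 := (P.eq_T.ge ht).2.1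

theorem T_comm {s t : G} (hs : s ∈ S ⊓ K) (ht : t ∈ S ⊓ K) : Commute s t :=
  (P.eq_T.ge hs).2.2 t ht

theorem R_le : R ≤ S ⊓ K := P.top.central.trans (omCentre_le _)

theorem S_conj {s t : G} (hs : s ∈ S) (ht : t ∈ S ⊓ K) : s * t * s⁻¹ ∈ S ⊓ K :=
  (Subgroup.mem_normalizer_iff.1 (P.top.le_normalizer_T hs) t).1 ht

theorem x_inv : x⁻¹ = x := inv_eq_of_mul_eq_one_right P.top.x_sq

theorem R_inv {r : G} (hr : r ∈ R) : r⁻¹ = r :=
  inv_eq_of_mul_eq_one_right (P.suzuki.sq r hr)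

/-- The translation of `z` by an element centralising `x` and normalising `T`, for `x` itself. -/
theorem x_shift {z : G} (hz : z ∈ S ⊓ K) : z⁻¹ * (x * z * x⁻¹) ∈ R := by
  have hw : x * z * x⁻¹ ∈ S ⊓ K := P.S_conj P.top.mem hz
  refine P.mem_R_T (mul_mem (inv_mem hz) hw) ?_
  have h1 : x * (z⁻¹ * (x * z * x⁻¹)) * x⁻¹ = (z⁻¹ * (x * z * x⁻¹))⁻¹ := by
    calc x * (z⁻¹ * (x * z * x⁻¹)) * x⁻¹ = (x * z⁻¹ * x⁻¹) * ((x * x) * z * (x * x)⁻¹) := by group
      _ = _ := by rw [P.top.x_sq]; group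
  rw [inv_eq_of_mul_eq_one_right (P.T_sq (mul_mem (inv_mem hz) hw))] at h1
  exact mul_inv_eq_iff_eq_mul.1 h1

/-- An element of `Q` translates `T` by `R`. -/
theorem shift_mem {g z : G} (hg : g ∈ Q) (hz : z ∈ S ⊓ K) : z⁻¹ * (g * z * g⁻¹) ∈ R := by
  have hw : g * z * g⁻¹ ∈ S ⊓ K := P.S_conj (P.le_S hg) hz
  refine P.mem_R_T (mul_mem (inv_mem hz) hw) ?_
  have hx := P.x_shift hz
  set r := z⁻¹ * (x * z * x⁻¹) with hr
  have e1 : x * z * x⁻¹ = z * r := by rw [hr, mul_inv_cancel_left]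
  have hxg : Commute x g := P.suzuki.comm g hg
  refine mul_inv_eq_iff_eq_mul.1 ?_
  calc x * (z⁻¹ * (g * z * g⁻¹)) * x⁻¹ = (x * z * x⁻¹)⁻¹ * ((x * g) * z * (x * g)⁻¹) := by group
    _ = (z * r)⁻¹ * (g * (x * z * x⁻¹) * g⁻¹) := by rw [hxg.eq, e1.symm]; group
    _ = r⁻¹ * z⁻¹ * ((g * z * g⁻¹) * (g * r * g⁻¹)) := by rw [e1]; group
    _ = r⁻¹ * ((z⁻¹ * (g * z * g⁻¹)) * r) := by
        rw [(P.suzuki.central g hg r hx).eq, mul_inv_cancel_right]; group
    _ = z⁻¹ * (g * z * g⁻¹) := by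
        rw [← (P.T_comm (P.R_le hx) (mul_mem (inv_mem hz) hw)).eq, inv_mul_cancel_left]

/-- The centraliser of `T` at `a` lies in `K`. -/
theorem centralizer_le : stabilizer G a ⊓ Subgroup.centralizer ((S ⊓ K : Subgroup G) : Set G) ≤ K := by
  set T := S ⊓ K with hT
  set N := stabilizer G a ⊓ Subgroup.centralizer (T : Set G) with hN
  have hTN : T ≤ N := le_inf (inf_le_left.trans P.top.top.2.1) fun t ht =>
    Subgroup.mem_centralizer_iff.2 fun s hs => (P.T_comm hs ht).eq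
  refine P.max.le_of_no_bad P.setting P.top.two_T inf_le_right P.top.odd_T
    (le_inf inf_le_left (inf_le_right.trans (Subgroup.centralizer_le_normalizer _))) ?_ ?_
  · intro g hg n hn
    refine ⟨mul_mem (mul_mem hg.1 hn.1) ((stabilizer G a).inv_mem hg.1),
      Subgroup.mem_centralizer_iff.2 fun t ht => ?_⟩
    have h1 := (Subgroup.mem_normalizer_iff.1 (inv_mem hg.2) t).1 ht
    rw [inv_inv] at h1
    calc t * (g * n * g⁻¹) = g * ((g⁻¹ * t * g) * n) * g⁻¹ := by group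
      _ = g * (n * (g⁻¹ * t * g)) * g⁻¹ := by rw [Subgroup.mem_centralizer_iff.1 hn.2 _ h1]
      _ = g * n * g⁻¹ * t := by group
  · intro v hv hbad
    rw [sup_eq_right.2 hTN] at hv
    obtain ⟨z, hz, hne⟩ := P.top.not_centralise P.setting P.rank hbad
    exact hne (Subgroup.mem_centralizer_iff.1 hv.2 z hz.1).symm

theorem exists_x_shift {r : G} (hr : r ∈ R) : ∃ z ∈ S ⊓ K, z⁻¹ * (x * z * x⁻¹) = r := by
  obtain ⟨z, hz, e⟩ := P.top.exists_shift P.setting hr
  refine ⟨z, hz.1, ?_⟩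
  have hzi : z⁻¹ = z := inv_eq_of_mul_eq_one_right hz.2.1
  have hzr : Commute z r := P.T_comm hz.1 (P.R_le hr)
  calc z⁻¹ * (x * z * x⁻¹) = (z * x * z⁻¹) * x⁻¹ := by rw [hzi]; group
    _ = x * r * x⁻¹ := by rw [e]
    _ = r := by rw [(P.suzuki.comm r (P.suzuki.le hr)).eq, mul_inv_cancel_right]

/-- A two-point element of `S` centralising `x` is `1` or `x`. -/
theorem eq_one_or_x {b : Ω} (hxb : x • b = b) (hba : b ≠ a) {w : G} (hw : w ∈ S) (hwx : Commute x w)
    (hwb : w • b = b) : w = 1 ∨ w = x := by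
  haveI : Fact (Nat.Prime 2) := ⟨Nat.prime_two⟩
  set W := (S ⊓ Subgroup.centralizer ({x} : Set G)) ⊓ stabilizer G b with hWdef
  have hWS : W ≤ S := inf_le_left.trans inf_le_left
  haveI hcyc := P.top.isCyclic_two_points P.setting P.rank hba (V := W) (P.top.top.1.to_le hWS)
    (le_inf (hWS.trans P.top.top.2.1) inf_le_right) (hWS.trans P.top.le_normalizer_T)
  have hxW : x ∈ W := ⟨⟨P.top.mem, Subgroup.mem_centralizer_singleton_iff.2 rfl⟩, hxb⟩
  have hwW : w ∈ W := ⟨⟨hw, Subgroup.mem_centralizer_singleton_iff.2 hwx.symm⟩, hwb⟩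
  by_cases hle : Nat.card W ≤ 2
  · by_contra hne
    push Not at hne
    have hx1 : x ≠ 1 := fun e => by
      have := P.suzuki.bad.1
      rw [e, orderOf_one] at this
      omega
    haveI : Fintype W := Fintype.ofFinite W
    have h3 : 2 < Fintype.card W := Fintype.two_lt_card_iff.2 ⟨1, ⟨x, hxW⟩, ⟨w, hwW⟩,
      fun e => hx1 (congrArg Subtype.val e).symm, fun e => hne.1 (congrArg Subtype.val e).symm,
      fun e => hne.2 (congrArg Subtype.val e).symm⟩
    rw [← Nat.card_eq_fintype_card] at h3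
    omega
  exfalso
  -- a generator gives a square root of `x` in `W`
  obtain ⟨c, hc⟩ := IsCyclic.exists_ofOrder_eq_natCard (α := W)
  obtain ⟨k, hk⟩ := (P.top.top.1.to_le hWS).exists_card_eq
  obtain ⟨m, rfl⟩ : ∃ m, k = m + 2 := ⟨k - 2, by
    rcases k with _ | _ | k
    · rw [pow_zero] at hk; omega
    · rw [pow_one] at hk; omega
    · omega⟩
  have htop : ∀ y : W, y ∈ Subgroup.zpowers c := by
    intro y
    rw [Subgroup.eq_top_of_card_eq (Subgroup.zpowers c) (by rw [Nat.card_zpowers, hc])]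
    exact Subgroup.mem_top y
  obtain ⟨n, hn⟩ := (mem_powers_iff_mem_zpowers).2 (htop ⟨x, hxW⟩)
  have hx2 : (⟨x, hxW⟩ : W) ^ 2 = 1 := Subtype.ext (by simpa [pow_two] using P.top.x_sq)
  simp only at hn
  have hd : 2 ^ (m + 2) ∣ n * 2 := by
    rw [← hk, ← hc]
    exact orderOf_dvd_of_pow_eq_one (by rw [pow_mul, hn, hx2])
  obtain ⟨l, hl⟩ : 2 ∣ n := by
    have : 2 ^ (m + 1) ∣ n := Nat.dvd_of_mul_dvd_mul_right (k := 2) (by norm_num)
      (by rwa [← pow_succ])
    exact dvd_trans (dvd_pow_self 2 (by omega)) this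
  set v : G := ((c ^ l : W) : G) with hv
  have hvv : v * v = x := by
    have := congrArg Subtype.val hn
    rw [hl, mul_comm, pow_mul, pow_two] at this
    exact this
  have hvW : v ∈ W := (c ^ l).2
  -- `v` normalises `R = C_T(x)`
  have hvx : Commute x v := by rw [← hvv]; exact (Commute.refl v).mul_left (Commute.refl v)
  have hvR : ∀ r ∈ R, v * r * v⁻¹ ∈ R := fun r hr => P.mem_R_T (P.S_conj (hWS hvW) (P.R_le hr)) (by
    have := (P.suzuki.comm r (P.suzuki.le hr)).map (MulAut.conj v).toMonoidHom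
    have e : v * x * v⁻¹ = x := by rw [← hvx.eq, mul_inv_cancel_right]
    simpa [e] using this)
  -- the norm map on `R` has kernel equal to its image
  let f : R →* R :=
    { toFun := fun r => r * ⟨v * r * v⁻¹, hvR r r.2⟩
      map_one' := Subtype.ext (by simp)
      map_mul' := fun r s => Subtype.ext (by
        have hc : Commute (s : G) (v * r * v⁻¹) := P.T_comm (P.R_le s.2) (P.R_le (hvR r r.2))
        show (r : G) * s * (v * (r * s) * v⁻¹) = r * (v * r * v⁻¹) * (s * (v * s * v⁻¹))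
        calc (r : G) * s * (v * (r * s) * v⁻¹) = r * (s * (v * r * v⁻¹)) * (v * s * v⁻¹) := by group
          _ = _ := by rw [hc.eq]; group) }
  have hfa : ∀ r : R, (f r : G) = r * (v * r * v⁻¹) := fun r => rfl
  have hxr : ∀ r : R, v * (v * r * v⁻¹) * v⁻¹ = r := fun r => by
    calc v * (v * r * v⁻¹) * v⁻¹ = (v * v) * r * (v * v)⁻¹ := by group
      _ = r := by rw [hvv, (P.suzuki.comm r (P.suzuki.le r.2)).eq, mul_inv_cancel_right]
  have hker : f.ker = f.range := by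
    refine le_antisymm (fun r hr => ?_) ?_
    · have hfix : v * r * v⁻¹ = r := by
        have h1 : (r : G) * (v * r * v⁻¹) = 1 := congrArg Subtype.val hr
        exact eq_inv_of_mul_eq_one_right h1 |>.trans (P.R_inv r.2)
      obtain ⟨z, hz, hzr⟩ := P.exists_x_shift r.2
      have hz' : v * z * v⁻¹ ∈ S ⊓ K := P.S_conj (hWS hvW) hz
      have huT : z⁻¹ * (v * z * v⁻¹) ∈ S ⊓ K := mul_mem (inv_mem hz) hz'
      have hxu : Commute x (z⁻¹ * (v * z * v⁻¹)) := by
        refine mul_inv_eq_iff_eq_mul.1 ?_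
        have ez : x * z * x⁻¹ = z * r := by rw [← hzr, mul_inv_cancel_left]
        calc x * (z⁻¹ * (v * z * v⁻¹)) * x⁻¹
            = (x * z * x⁻¹)⁻¹ * ((x * v) * z * (x * v)⁻¹) := by group
          _ = (z * r)⁻¹ * (v * (x * z * x⁻¹) * v⁻¹) := by rw [hvx.eq, ez.symm]; group
          _ = (r : G)⁻¹ * z⁻¹ * ((v * z * v⁻¹) * (v * r * v⁻¹)) := by rw [ez]; group
          _ = (r : G)⁻¹ * ((z⁻¹ * (v * z * v⁻¹)) * r) := by rw [hfix]; group
          _ = z⁻¹ * (v * z * v⁻¹) := by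
              rw [← (P.T_comm (P.R_le r.2) huT).eq, inv_mul_cancel_left]
      refine ⟨⟨_, P.mem_R_T huT hxu⟩, Subtype.ext ?_⟩
      rw [hfa]
      calc z⁻¹ * (v * z * v⁻¹) * (v * (z⁻¹ * (v * z * v⁻¹)) * v⁻¹)
          = z⁻¹ * ((v * v) * z * (v * v)⁻¹) := by group
        _ = (r : G) := by rw [hvv, hzr]
    · rintro _ ⟨r, rfl⟩
      refine Subtype.ext ?_
      have hc : Commute (r : G) (v * r * v⁻¹) := P.T_comm (P.R_le r.2) (P.R_le (hvR r r.2))
      show (f r : G) * (v * (f r : G) * v⁻¹) = 1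
      rw [hfa]
      calc (r : G) * (v * r * v⁻¹) * (v * (r * (v * r * v⁻¹)) * v⁻¹)
          = (r : G) * ((v * r * v⁻¹) * (v * r * v⁻¹)) * (v * (v * r * v⁻¹) * v⁻¹) := by group
        _ = (r : G) * r := by rw [P.suzuki.sq _ (hvR r r.2), mul_one, hxr]
        _ = 1 := P.suzuki.sq _ r.2
  obtain ⟨r, hrodd, -, hr⟩ := P.suzuki.card_R
  have hcard := f.ker.card_mul_index
  rw [Subgroup.index_ker, ← hker, hr] at hcard
  obtain ⟨i, -, hi⟩ := (Nat.dvd_prime_pow Nat.prime_two).1 (Dvd.intro _ hcard)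
  rw [hi, ← pow_add] at hcard
  have := Nat.pow_right_injective le_rfl hcard
  exact Nat.not_even_iff_odd.2 hrodd ⟨i, this.symm⟩

/-- The centraliser of `x` in `S` is `Q⟨x⟩`. -/
theorem exists_of_comm {g : G} (hg : g ∈ S) (hgx : Commute x g) :
    ∃ q ∈ Q, g = q ∨ g = q * x := by
  obtain ⟨b, hxb, hba⟩ := P.top.exists_other
  have hga : g • a = a := mem_stabilizer_iff.1 (P.top.top.2.1 hg)
  obtain ⟨q, hq, hqb⟩ := P.suzuki.trans b (g • b) hxb (by rw [smul_smul, hgx.eq, mul_smul, hxb]) hba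
    (fun e => hba (smul_left_cancel g (e.trans hga.symm)))
  rcases P.eq_one_or_x hxb hba (w := q⁻¹ * g) (mul_mem (inv_mem (P.le_S hq)) hg)
      ((P.suzuki.comm q hq).inv_right.mul_right hgx) (by rw [mul_smul, ← hqb, inv_smul_smul]) with e | e
  · exact ⟨q, hq, Or.inl (inv_mul_eq_one.1 e).symm⟩
  · exact ⟨q, hq, Or.inr (inv_mul_eq_iff_eq_mul.1 e)⟩

/-- The torus carries an element of `Q` outside `R` to every other one modulo `R`. -/
theorem exists_torus {g g' : G} (hg : g ∈ Q) (hgR : g ∉ R) (hg' : g' ∈ Q) (hgR' : g' ∉ R) :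
    ∃ j : G, j • a = a ∧ Commute x j ∧ (∀ z ∈ S ⊓ K, j * z * j⁻¹ ∈ S ⊓ K) ∧
      (∀ q ∈ Q, j * q * j⁻¹ ∈ Q) ∧ g'⁻¹ * (j * g * j⁻¹) ∈ R := by
  have hne : ∀ y ∈ Q, y ∉ R → y * y ≠ 1 := fun y hy hyR e => hyR (P.suzuki.involution y hy e)
  obtain ⟨j, hj, e⟩ := P.suzuki.trans_J _ (P.suzuki.sq_mem g hg) _ (P.suzuki.sq_mem g' hg')
    (hne g hg hgR) (hne g' hg' hgR')
  obtain ⟨k, hka, hkx, hkU, hkQ, hkR, -⟩ := P.lift j hj
  refine ⟨k, hka, hkx, fun z hz => ?_, fun q hq => (Subgroup.mem_normalizer_iff.1 hkQ q).1 hq,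
    P.suzuki.sq_inj g' hg' _ ((Subgroup.mem_normalizer_iff.1 hkQ g).1 hg) ?_⟩
  · have := (Subgroup.mem_normalizer_iff.1 hkU z).1 (P.eq_T.ge hz)
    exact this.1
  · rw [show k * g * k⁻¹ * (k * g * k⁻¹) = k * (g * g) * k⁻¹ by group,
      hkR _ (P.suzuki.sq_mem g hg), e]

end ShearTop

end CfsgLib.LocalEven.OnePointFront.Nonfull.Moved
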