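import Cfsg.Agent.Lib.LocalEven.OnePointFront.Nonfull.Moved.ShearFacts

/-!
# Every shear of a Suzuki line has a fixed vector

`g ↦ [g, ·]` pairs `Q / R` with `Z / R ≅ R` into `R`, equivariantly for the torus.  The pairing is
non-zero as `Q` moves `Z`, so it is onto in the first argument: for every `g` in `Q` outside `R`
some element of `Z` outside `R` commutes with `x g`.
-/

set_option autoImplicit false
set_option linter.style.haveILetI false
set_option linter.unusedSectionVars false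

namespace CfsgLib.LocalEven.OnePointFront.Nonfull.Moved

open MulAction CfsgLib.LocalEven.TIEndgame CfsgLib.Involution

universe u

variable {G Ω : Type u} [Group G] [MulAction G Ω] [Finite G] [Finite Ω] [FaithfulSMul G Ω]
  {D : Set G} {a : Ω} {x : G} {K R Q J S : Subgroup G}

namespace ShearTop

variable (P : ShearTop D a x K R Q J S)
include P

theorem Q_conj {g : G} (hg : g ∈ Q) {r : G} (hr : r ∈ R) : g * r * g⁻¹ = r := by
  rw [(P.suzuki.central g hg r hr).eq, mul_inv_cancel_right]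

theorem shift_mul_left {g g' z : G} (hg : g ∈ Q) (hg' : g' ∈ Q) (hz : z ∈ S ⊓ K) :
    z⁻¹ * (g * g' * z * (g * g')⁻¹) = (z⁻¹ * (g * z * g⁻¹)) * (z⁻¹ * (g' * z * g'⁻¹)) := by
  calc z⁻¹ * (g * g' * z * (g * g')⁻¹)
      = (z⁻¹ * (g * z * g⁻¹)) * (g * (z⁻¹ * (g' * z * g'⁻¹)) * g⁻¹) := by group
    _ = _ := by rw [P.Q_conj hg (P.shift_mem hg' hz)]

theorem shift_mul_right {g z z' : G} (hg : g ∈ S) (hz : z ∈ S ⊓ K) (hz' : z' ∈ S ⊓ K) :
    (z * z')⁻¹ * (g * (z * z') * g⁻¹) = (z⁻¹ * (g * z * g⁻¹)) * (z'⁻¹ * (g * z' * g⁻¹)) := by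
  have hc : Commute z'⁻¹ (z⁻¹ * (g * z * g⁻¹)) :=
    P.T_comm (inv_mem hz') (mul_mem (inv_mem hz) (P.S_conj hg hz))
  calc (z * z')⁻¹ * (g * (z * z') * g⁻¹) = z'⁻¹ * (z⁻¹ * (g * z * g⁻¹)) * (g * z' * g⁻¹) := by group
    _ = _ := by rw [hc.eq, mul_assoc]

theorem shift_R {g z : G} (hg : g ∈ R) (hz : z ∈ S ⊓ K) : z⁻¹ * (g * z * g⁻¹) = 1 := by
  rw [(P.T_comm (P.R_le hg) hz).eq, mul_inv_cancel_right, inv_mul_cancel]

theorem shift_congr {g z z' : G} (hg : g ∈ Q) (hz : z ∈ S ⊓ K) (hz' : z' ∈ S ⊓ K)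
    (e : z⁻¹ * (x * z * x⁻¹) = z'⁻¹ * (x * z' * x⁻¹)) :
    z⁻¹ * (g * z * g⁻¹) = z'⁻¹ * (g * z' * g⁻¹) := by
  have hT : z * z' ∈ S ⊓ K := mul_mem hz hz'
  have hR : z * z' ∈ R := by
    refine P.mem_R_T hT (mul_inv_eq_iff_eq_mul.1 ?_)
    have h1 := P.shift_mul_right P.top.mem hz hz'
    rw [← e, P.suzuki.sq _ (P.x_shift hz), inv_mul_eq_one] at h1
    exact h1.symm
  have h2 := P.shift_mul_right (P.le_S hg) hz hz'
  rw [P.Q_conj hg hR, inv_mul_cancel] at h2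
  exact (eq_inv_of_mul_eq_one_left h2.symm).trans (P.R_inv (P.shift_mem hg hz'))

/-- The commutator is the polarisation of squaring. -/
theorem polar {g g' : G} (hg : g ∈ Q) (hg' : g' ∈ Q) :
    g * g' * (g * g') * ((g * g) * (g' * g')) = g * g' * g⁻¹ * g'⁻¹ := by
  have hinv : ∀ y ∈ Q, y * (y * y) = y⁻¹ := fun y hy => eq_inv_of_mul_eq_one_left (by
    calc y * (y * y) * y = (y * y) * (y * y) := by group
      _ = 1 := P.suzuki.sq _ (P.suzuki.sq_mem y hy))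
  calc g * g' * (g * g') * ((g * g) * (g' * g')) = g * g' * g * (g' * (g * g)) * (g' * g') := by group
    _ = g * g' * (g * (g * g)) * (g' * (g' * g')) := by
        rw [(P.suzuki.central g' hg' _ (P.suzuki.sq_mem g hg)).eq]; group
    _ = _ := by rw [hinv g hg, hinv g' hg']

theorem polar_mem {g g' : G} (hg : g ∈ Q) (hg' : g' ∈ Q) : g * g' * g⁻¹ * g'⁻¹ ∈ R := by
  rw [← P.polar hg hg']
  exact mul_mem (P.suzuki.sq_mem _ (mul_mem hg hg'))
    (mul_mem (P.suzuki.sq_mem g hg) (P.suzuki.sq_mem g' hg'))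

theorem sq_congr {g g' : G} (hg : g ∈ Q) (hr : g⁻¹ * g' ∈ R) : g' * g' = g * g := by
  calc g' * g' = g * ((g⁻¹ * g') * g) * (g⁻¹ * g') := by group
    _ = g * g * ((g⁻¹ * g') * (g⁻¹ * g')) := by
        rw [← (P.suzuki.central g hg _ hr).eq]; group
    _ = g * g := by rw [P.suzuki.sq _ hr, mul_one]

theorem eight_le : 8 ≤ Nat.card R := by
  obtain ⟨r, -, hr3, hr⟩ := P.suzuki.card_R
  rw [hr]
  exact le_trans (by norm_num : 8 ≤ 2 ^ 3) (Nat.pow_le_pow_right (by norm_num) hr3)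

theorem exists_noncomm : ∃ g ∈ Q, ∃ g' ∈ Q, ¬ Commute g g' := by
  by_contra hall
  push Not at hall
  obtain ⟨r, hr, hr1⟩ : ∃ r ∈ R, r ≠ 1 := R.bot_or_exists_ne_one.resolve_left fun e => by
    have := P.eight_le
    rw [e, Subgroup.card_bot] at this
    omega
  obtain ⟨g, hg, hgg⟩ := P.suzuki.sq_onto r hr
  have hgR : g ∉ R := fun h => hr1 (hgg ▸ P.suzuki.sq g h)
  have hsub : ∀ y : Q, ∃ b : Bool, ∃ s : R, (y : G) = cond b g 1 * s := fun y => by
    rcases P.suzuki.sq_comm g hg hgR y y.2 (hall g hg y y.2) with e | e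
    · exact ⟨false, ⟨y, e⟩, (one_mul _).symm⟩
    · exact ⟨true, ⟨_, e⟩, (mul_inv_cancel_left g _).symm⟩
  choose fb fs hf using hsub
  have hle := Nat.card_le_card_of_injective (fun y : Q => (fb y, fs y)) fun y y' e => by
    obtain ⟨e1, e2⟩ := Prod.mk.inj e
    exact Subtype.ext (by rw [hf, hf, e1, e2])
  rw [Nat.card_prod, Nat.card_eq_fintype_card (α := Bool), Fintype.card_bool,
    P.suzuki.card_Q] at hle
  have := P.eight_le
  nlinarith

theorem exists_fixed {g : G} (hg : g ∈ Q) (hgR : g ∉ R) :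
    ∃ z ∈ S ⊓ K, z ∉ R ∧ Commute (x * g) z := by
  classical
  set R' := R.subgroupOf Q with hR'
  haveI hn : R'.Normal := ⟨fun r hr q => by
    rw [hR', Subgroup.mem_subgroupOf] at hr ⊢
    push_cast
    rw [P.Q_conj q.2 hr]
    exact hr⟩
  have hcomm : ∀ p q : ↥Q ⧸ R', p * q = q * p := by
    rintro ⟨p⟩ ⟨q⟩
    refine QuotientGroup.eq.2 (Subgroup.mem_subgroupOf.2 ?_)
    have h := P.polar_mem (inv_mem q.2) (inv_mem p.2)
    simpa [mul_assoc] using h
  letI : CommGroup (↥Q ⧸ R') := { (inferInstance : Group (↥Q ⧸ R')) with mul_comm := hcomm }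
  letI : CommGroup R :=
    { (inferInstance : Group R) with
      mul_comm := fun p q => Subtype.ext (P.suzuki.central p (P.suzuki.le p.2) q q.2).eq }
  -- the torus elements and their automorphisms
  let Lift := {k : G // k • a = a ∧ Commute x k ∧ k ∈ Subgroup.normalizer (Q : Set G) ∧
    k ∈ Subgroup.normalizer (R : Set G) ∧ (∀ z ∈ S ⊓ K, k * z * k⁻¹ ∈ S ⊓ K) ∧
    ∃ j ∈ J, ∀ r ∈ R, k * r * k⁻¹ = j * r * j⁻¹}
  have hQmem : ∀ k : Lift, ∀ q ∈ Q, (k : G) * q * (k : G)⁻¹ ∈ Q ∧ (k : G)⁻¹ * q * k ∈ Q :=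
    fun k q hq => ⟨(Subgroup.mem_normalizer_iff.1 k.2.2.2.1 q).1 hq,
      by simpa using (Subgroup.mem_normalizer_iff.1 (inv_mem k.2.2.2.1) q).1 hq⟩
  have hRmem : ∀ k : Lift, ∀ q ∈ R, (k : G) * q * (k : G)⁻¹ ∈ R ∧ (k : G)⁻¹ * q * k ∈ R :=
    fun k q hq => ⟨(Subgroup.mem_normalizer_iff.1 k.2.2.2.2.1 q).1 hq,
      by simpa using (Subgroup.mem_normalizer_iff.1 (inv_mem k.2.2.2.2.1) q).1 hq⟩
  let aQ : Lift → (↥Q ≃* ↥Q) := fun k =>
    { toFun := fun q => ⟨(k : G) * q * (k : G)⁻¹, (hQmem k q q.2).1⟩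
      invFun := fun q => ⟨(k : G)⁻¹ * q * k, (hQmem k q q.2).2⟩
      left_inv := fun q => Subtype.ext (by simp [mul_assoc])
      right_inv := fun q => Subtype.ext (by simp [mul_assoc])
      map_mul' := fun p q => Subtype.ext (by simp [mul_assoc]) }
  let aR : Lift → (↥R ≃* ↥R) := fun k =>
    { toFun := fun q => ⟨(k : G) * q * (k : G)⁻¹, (hRmem k q q.2).1⟩
      invFun := fun q => ⟨(k : G)⁻¹ * q * k, (hRmem k q q.2).2⟩
      left_inv := fun q => Subtype.ext (by simp [mul_assoc])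
      right_inv := fun q => Subtype.ext (by simp [mul_assoc])
      map_mul' := fun p q => Subtype.ext (by simp [mul_assoc]) }
  have hmapR : ∀ k : Lift, R'.map (aQ k).toMonoidHom = R' := fun k => by
    refine Subgroup.eq_of_le_of_card_ge ?_
      (Subgroup.card_map_of_injective (aQ k).injective).ge
    rintro _ ⟨q, hq, rfl⟩
    exact Subgroup.mem_subgroupOf.2 (hRmem k q (Subgroup.mem_subgroupOf.1 hq)).1
  let bQ : Lift → (↥Q ⧸ R' ≃* ↥Q ⧸ R') := fun k => QuotientGroup.congr R' R' (aQ k) (hmapR k)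
  let T : Set ((Additive (↥Q ⧸ R') ≃+ Additive (↥Q ⧸ R')) × (Additive R ≃+ Additive R)) :=
    Set.range fun k : Lift => ((bQ k).toAdditive, (aR k).toAdditive)
  -- squaring and the pairing
  let sq : Additive (↥Q ⧸ R') → Additive R := fun e => Additive.ofMul
    ⟨((Additive.toMul e).out : G) * (Additive.toMul e).out, P.suzuki.sq_mem _ (Additive.toMul e).out.2⟩
  have hsqv : ∀ q : Q, ((Additive.toMul (sq (Additive.ofMul (q : ↥Q ⧸ R'))) : R) : G) = (q : G) * q := by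
    intro q
    refine P.sq_congr q.2 ?_
    exact Subgroup.mem_subgroupOf.1 (QuotientGroup.eq.1
      (QuotientGroup.out_eq' (q : ↥Q ⧸ R')).symm)
  choose zc hzc hzce using fun r : R => P.exists_x_shift r.2
  let β : Additive (↥Q ⧸ R') → Additive R → Additive R := fun e r => Additive.ofMul
    ⟨(zc (Additive.toMul r))⁻¹ *
      (((Additive.toMul e).out : G) * zc (Additive.toMul r) * ((Additive.toMul e).out : G)⁻¹),
      P.shift_mem (Additive.toMul e).out.2 (hzc _)⟩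
  have hβv : ∀ (q : Q) (r : R) (z : G), z ∈ S ⊓ K → z⁻¹ * (x * z * x⁻¹) = r →
      ((Additive.toMul (β (Additive.ofMul (q : ↥Q ⧸ R')) (Additive.ofMul r)) : R) : G) =
        z⁻¹ * ((q : G) * z * (q : G)⁻¹) := by
    intro q r z hz e
    set o : Q := Quotient.out (q : ↥Q ⧸ R') with ho
    have hd : (q : G)⁻¹ * o ∈ R :=
      Subgroup.mem_subgroupOf.1 (QuotientGroup.eq.1 (QuotientGroup.out_eq' (q : ↥Q ⧸ R')).symm)
    show (zc r)⁻¹ * ((o : G) * zc r * (o : G)⁻¹) = _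
    rw [P.shift_congr o.2 (hzc r) hz ((hzce r).trans e.symm),
      show (o : G) = q * ((q : G)⁻¹ * o) by group,
      P.shift_mul_left q.2 (P.suzuki.le hd) hz, P.shift_R hd hz, mul_one]
  have hEq : ∀ {u w : Additive R}, ((Additive.toMul u : R) : G) = ((Additive.toMul w : R) : G) → u = w :=
    fun {u w} e => congrArg Additive.ofMul (Subtype.ext e : Additive.toMul u = Additive.toMul w)
  have hrep : ∀ e : Additive (↥Q ⧸ R'), ∃ q : Q, Additive.ofMul (q : ↥Q ⧸ R') = e := fun e => by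
    obtain ⟨q, hq⟩ := QuotientGroup.mk_surjective (Additive.toMul e)
    exact ⟨q, congrArg Additive.ofMul hq⟩
  obtain ⟨z₀, hz₀, g₀, hg₀, hmove⟩ : ∃ z ∈ S ⊓ K, ∃ g ∈ Q, z⁻¹ * (g * z * g⁻¹) ≠ 1 := by
    obtain ⟨g₀, hg₀, z₀, hz₀, hne⟩ := P.top.exists_moving P.setting P.rank P.max P.le_S
      (fun t ht hxt => P.mem_R_T ht hxt)
    exact ⟨z₀, hz₀.1, g₀, hg₀, fun e =>
      hne (mul_inv_eq_iff_eq_mul.1 (inv_mul_eq_one.1 e).symm)⟩
  obtain ⟨r₀, hr₀, hr₀1⟩ : ∃ r ∈ R, r ≠ 1 := R.bot_or_exists_ne_one.resolve_left fun e => by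
    have := P.eight_le
    rw [e, Subgroup.card_bot] at this
    omega
  have hsurj := shear_surjective (E := Additive (↥Q ⧸ R')) (R := Additive R) (w := Additive.ofMul ⟨r₀, hr₀⟩)
    (fun e => by
      obtain ⟨q, rfl⟩ := hrep e
      exact congrArg Additive.ofMul ((QuotientGroup.eq_one_iff (q * q)).2
        (Subgroup.mem_subgroupOf.2 (P.suzuki.sq_mem q q.2))))
    (fun r => congrArg Additive.ofMul (Subtype.ext (P.suzuki.sq _ (Additive.toMul r).2) :
      Additive.toMul r * Additive.toMul r = (1 : R)))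
    P.eight_le sq
    ⟨fun e e' he => by
      obtain ⟨q, rfl⟩ := hrep e
      obtain ⟨q', rfl⟩ := hrep e'
      refine congrArg Additive.ofMul (QuotientGroup.eq.2 (Subgroup.mem_subgroupOf.2
        (P.suzuki.sq_inj q q.2 q' q'.2 ?_)))
      rw [← hsqv, ← hsqv, he], fun r => by
      obtain ⟨q, hq, hqq⟩ := P.suzuki.sq_onto _ (Additive.toMul r).2
      exact ⟨Additive.ofMul ((⟨q, hq⟩ : Q) : ↥Q ⧸ R'), hEq ((hsqv ⟨q, hq⟩).trans hqq)⟩⟩
    (hEq (by
      show ((Additive.toMul (sq (Additive.ofMul ((1 : Q) : ↥Q ⧸ R'))) : R) : G) = 1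
      rw [hsqv]; simp))
    (fun e₁ e₂ e₃ => by
      obtain ⟨p, rfl⟩ := hrep e₁
      obtain ⟨q, rfl⟩ := hrep e₂
      obtain ⟨s, rfl⟩ := hrep e₃
      simp only [← ofMul_mul, ← QuotientGroup.mk_mul]
      refine hEq ?_
      simp only [toMul_add, Subgroup.coe_mul, hsqv]
      have A1 := P.polar (mul_mem p.2 q.2) s.2
      have A2 := P.polar p.2 s.2
      have A3 := P.polar q.2 s.2
      have A4 : (p : G) * q * s * ((p : G) * q)⁻¹ * (s : G)⁻¹ =
          ((p : G) * s * (p : G)⁻¹ * (s : G)⁻¹) * ((q : G) * s * (q : G)⁻¹ * (s : G)⁻¹) := by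
        calc (p : G) * q * s * ((p : G) * q)⁻¹ * (s : G)⁻¹
            = p * ((q : G) * s * (q : G)⁻¹ * (s : G)⁻¹) * (s * (p : G)⁻¹ * (s : G)⁻¹) := by group
          _ = ((q : G) * s * (q : G)⁻¹ * (s : G)⁻¹) * ((p : G) * s * (p : G)⁻¹ * (s : G)⁻¹) := by
              rw [(P.suzuki.central p p.2 _ (P.polar_mem q.2 s.2)).eq]; group
          _ = _ := by
              rw [(P.suzuki.central _ (P.suzuki.le (P.polar_mem q.2 s.2)) _ (P.polar_mem p.2 s.2)).eq]
      rw [← A1, ← A2, ← A3] at A4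
      simp only [Subgroup.coe_mul, mul_assoc] at A4 ⊢
      exact A4)
    (by
      obtain ⟨p, hp, q, hq, hne⟩ := P.exists_noncomm
      refine ⟨Additive.ofMul ((⟨p, hp⟩ : Q) : ↥Q ⧸ R'), Additive.ofMul ((⟨q, hq⟩ : Q) : ↥Q ⧸ R'),
        fun e => hne ?_⟩
      have e' := congrArg (fun u : Additive R => ((Additive.toMul u : R) : G)) e
      simp only [← ofMul_mul, ← QuotientGroup.mk_mul, toMul_add, Subgroup.coe_mul, hsqv] at e'
      show p * q = q * p
      refine eq_mul_inv_iff_mul_eq.1 ?_ |>.symm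
      rw [← mul_inv_eq_one] at e'
      have h1 := P.polar hp hq
      have hrr : ((p * p) * (q * q))⁻¹ = (p * p) * (q * q) :=
        P.R_inv (mul_mem (P.suzuki.sq_mem p hp) (P.suzuki.sq_mem q hq))
      rw [hrr] at e'
      rw [e'] at h1
      exact (mul_inv_eq_one.1 h1.symm).symm)
    T
    (by
      rintro _ ⟨k, rfl⟩ _ ⟨l, rfl⟩ r
      obtain ⟨i, hi, hki⟩ := k.2.2.2.2.2.2
      obtain ⟨j, hj, hlj⟩ := l.2.2.2.2.2.2
      refine hEq ?_
      show (k : G) * ((l : G) * ((Additive.toMul r : R) : G) * (l : G)⁻¹) * (k : G)⁻¹ =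
        (l : G) * ((k : G) * ((Additive.toMul r : R) : G) * (k : G)⁻¹) * (l : G)⁻¹
      rw [hki _ (hRmem l _ (Additive.toMul r).2).1, hlj _ (Additive.toMul r).2,
        hlj _ (hRmem k _ (Additive.toMul r).2).1, hki _ (Additive.toMul r).2]
      exact P.suzuki.abel_J i hi j hj _ (Additive.toMul r).2)
    (by
      rintro _ ⟨k, rfl⟩ e
      obtain ⟨q, rfl⟩ := hrep e
      refine hEq ?_
      show ((Additive.toMul (sq (Additive.ofMul ((aQ k q : Q) : ↥Q ⧸ R'))) : R) : G) =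
        (k : G) * ((Additive.toMul (sq (Additive.ofMul (q : ↥Q ⧸ R'))) : R) : G) * (k : G)⁻¹
      rw [hsqv, hsqv]
      show (k : G) * q * (k : G)⁻¹ * ((k : G) * q * (k : G)⁻¹) = _
      group)
    (fun r s hr hs => by
      obtain ⟨j, hj, e⟩ := P.suzuki.trans_J _ (Additive.toMul r).2 _ (Additive.toMul s).2
        (fun h => hr (hEq h)) (fun h => hs (hEq h))
      obtain ⟨k, hka, hkx, hkU, hkQ, hkR, -⟩ := P.lift j hj
      have hkRn : k ∈ Subgroup.normalizer (R : Set G) := mem_normalizer_of_conj_mem fun r hr => by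
        rw [hkR r hr]
        exact (Subgroup.mem_normalizer_iff.1 (P.suzuki.norm_J hj).1 r).1 hr
      refine ⟨_, ⟨⟨k, hka, hkx, hkQ, hkRn, fun z hz =>
        ((Subgroup.mem_normalizer_iff.1 hkU z).1 (P.eq_T.ge hz)).1, j, hj, hkR⟩, rfl⟩, hEq ?_⟩
      show k * ((Additive.toMul r : R) : G) * k⁻¹ = _
      rw [hkR _ (Additive.toMul r).2, e])
    β
    (fun e₁ e₂ r => by
      obtain ⟨p, rfl⟩ := hrep e₁
      obtain ⟨q, rfl⟩ := hrep e₂
      obtain ⟨r, rfl⟩ : ∃ r' : R, Additive.ofMul r' = r := ⟨Additive.toMul r, rfl⟩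
      refine hEq ?_
      rw [← ofMul_mul, ← QuotientGroup.mk_mul, toMul_add]
      simp only [Subgroup.coe_mul, hβv _ r _ (hzc r) (hzce r)]
      exact P.shift_mul_left p.2 q.2 (hzc r))
    (fun e r s => by
      obtain ⟨q, rfl⟩ := hrep e
      obtain ⟨r, rfl⟩ : ∃ r' : R, Additive.ofMul r' = r := ⟨Additive.toMul r, rfl⟩
      obtain ⟨s, rfl⟩ : ∃ s' : R, Additive.ofMul s' = s := ⟨Additive.toMul s, rfl⟩
      refine hEq ?_
      rw [← ofMul_mul, hβv _ (r * s) _ (mul_mem (hzc r) (hzc s)) (by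
          rw [P.shift_mul_right P.top.mem (hzc r) (hzc s), hzce, hzce]; rfl),
        toMul_add, Subgroup.coe_mul, hβv _ r _ (hzc r) (hzce r), hβv _ s _ (hzc s) (hzce s)]
      exact P.shift_mul_right (P.le_S q.2) (hzc r) (hzc s))
    (by
      rintro _ ⟨k, rfl⟩ e r
      obtain ⟨q, rfl⟩ := hrep e
      obtain ⟨r, rfl⟩ : ∃ r' : R, Additive.ofMul r' = r := ⟨Additive.toMul r, rfl⟩
      refine hEq ?_
      show ((Additive.toMul (β (Additive.ofMul ((aQ k q : Q) : ↥Q ⧸ R')) (Additive.ofMul (aR k r))) : R) : G) =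
        (k : G) * ((Additive.toMul (β (Additive.ofMul (q : ↥Q ⧸ R')) (Additive.ofMul r)) : R) : G) * (k : G)⁻¹
      have hkx : (k : G) * x * (k : G)⁻¹ = x := by rw [k.2.2.1.symm.eq, mul_inv_cancel_right]
      rw [hβv _ (aR k r) ((k : G) * zc r * (k : G)⁻¹) (k.2.2.2.2.2.1 _ (hzc r)) (by
          calc ((k : G) * zc r * (k : G)⁻¹)⁻¹ * (x * ((k : G) * zc r * (k : G)⁻¹) * x⁻¹)
              = ((k : G) * zc r * (k : G)⁻¹)⁻¹ * (((k : G) * x * (k : G)⁻¹) *
                  ((k : G) * zc r * (k : G)⁻¹) * ((k : G) * x * (k : G)⁻¹)⁻¹) := by rw [hkx]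
            _ = (k : G) * ((zc r)⁻¹ * (x * zc r * x⁻¹)) * (k : G)⁻¹ := by group
            _ = _ := by rw [hzce r]; rfl),
        hβv _ r _ (hzc r) (hzce r)]
      show ((k : G) * zc r * (k : G)⁻¹)⁻¹ * ((k : G) * q * (k : G)⁻¹ *
        ((k : G) * zc r * (k : G)⁻¹) * ((k : G) * q * (k : G)⁻¹)⁻¹) = _
      group)
    (by
      refine ⟨Additive.ofMul ((⟨g₀, hg₀⟩ : Q) : ↥Q ⧸ R'),
        Additive.ofMul ⟨_, P.x_shift hz₀⟩, fun e => hmove ?_⟩
      have e' := congrArg (fun u : Additive R => ((Additive.toMul u : R) : G)) e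
      rw [hβv ⟨g₀, hg₀⟩ ⟨_, P.x_shift hz₀⟩ z₀ hz₀ rfl] at e'
      exact e')
  obtain ⟨e, he⟩ := hsurj
    (fun h => hr₀1 (congrArg (fun u : Additive R => ((Additive.toMul u : R) : G)) h))
    (Additive.ofMul ⟨r₀, hr₀⟩)
  obtain ⟨⟨p, hp⟩, rfl⟩ := hrep e
  obtain ⟨z, hz, hzr⟩ := P.exists_x_shift hr₀
  have hpz : z⁻¹ * (p * z * p⁻¹) = r₀ :=
    (hβv ⟨p, hp⟩ ⟨r₀, hr₀⟩ z hz hzr).symm.trans (congrArg (fun u : Additive R => ((Additive.toMul u : R) : G)) he)
  have hzR : z ∉ R := fun h => hr₀1 (by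
    rw [← hpz, P.Q_conj hp h, inv_mul_cancel])
  have hpR : p ∉ R := fun h => hr₀1 (by rw [← hpz, P.shift_R h hz])
  have hxp : Commute (x * p) z := by
    have e1 : x * z * x⁻¹ = z * r₀ := by rw [← hzr, mul_inv_cancel_left]
    have e2 : p * z * p⁻¹ = z * r₀ := by rw [← hpz, mul_inv_cancel_left]
    refine mul_inv_eq_iff_eq_mul.1 ?_
    calc x * p * z * (x * p)⁻¹ = x * (p * z * p⁻¹) * x⁻¹ := by group
      _ = (x * z * x⁻¹) * (x * r₀ * x⁻¹) := by rw [e2]; group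
      _ = z * (r₀ * r₀) := by
          rw [e1, (P.suzuki.comm r₀ (P.suzuki.le hr₀)).eq, mul_inv_cancel_right, mul_assoc]
      _ = z := by rw [P.suzuki.sq r₀ hr₀, mul_one]
  -- move it to `g`
  obtain ⟨j, -, hjx, hjT, hjQ, hjg⟩ := P.exists_torus hp hpR hg hgR
  refine ⟨j * z * j⁻¹, hjT z hz, fun h => hzR (P.mem_R_T hz ?_), ?_⟩
  · have hc := P.suzuki.comm _ (P.suzuki.le h)
    refine mul_left_cancel (a := j) (mul_right_cancel (b := j⁻¹) ?_)
    calc j * (x * z) * j⁻¹ = x * (j * z * j⁻¹) := by rw [← mul_assoc, ← hjx.eq]; group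
      _ = (j * z * j⁻¹) * x := hc.eq
      _ = j * (z * x) * j⁻¹ := by
          rw [mul_assoc (j * z) j⁻¹ x, ← (Commute.inv_right hjx).eq]; group
  · have h1 : Commute (x * (j * p * j⁻¹)) (j * z * j⁻¹) := by
      have := hxp.map (MulAut.conj j).toMonoidHom
      simp only [MulEquiv.coe_toMonoidHom, MulAut.conj_apply] at this
      rwa [show j * (x * p) * j⁻¹ = x * (j * p * j⁻¹) by
        rw [← mul_assoc j x p, ← hjx.eq]; group] at this
    have h2 : Commute (g⁻¹ * (j * p * j⁻¹)) (j * z * j⁻¹) :=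
      P.T_comm (P.R_le hjg) (hjT z hz)
    have h3 := h1.mul_left h2.inv_left
    rwa [show x * (j * p * j⁻¹) * (g⁻¹ * (j * p * j⁻¹))⁻¹ = x * g by group] at h3

end ShearTop

end CfsgLib.LocalEven.OnePointFront.Nonfull.Moved
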